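import Groth.Agent.AlgStLib.OpenSub
import Groth.Agent.AlgStLib.IsoClassSp

/-!
# Inertia of full substacks
-/

set_option autoImplicit false
set_option backward.isDefEq.respectTransparency false
set_option backward.isDefEq.respectTransparency.types false
set_option linter.style.haveILetI false
universe u

noncomputable section

namespace Groth.Agent.GerbDense

open CategoryTheory CategoryTheory.Limits AlgebraicGeometry Opposite Groth.Agent.AlgSpLib Groth.Agent.StkBasic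
  Groth.Agent.FibCatRep Groth.Agent.FibCat2Misc Groth.Agent.AlgStLib
open _root_.AlgSp _root_.AlgSt

variable {S : Scheme.{u}} {𝒳 : AlgSt.Cat S} (Q : 𝒳.obj → Prop)

local notation "IncI" => FibCat.inertia (FibCat.toSelf (AlgSt.fullSub 𝒳 Q))
local notation "IX" => FibCat.inertiaToBase (FibCat.toSelf 𝒳)

/-- the inertia of a full subcategory inside the inertia -/
def inclInertia : IncI ⥤ᵇ FibCat.inertia (FibCat.toSelf 𝒳) where
  toFunctor :=
    { obj := fun o => ⟨o.pt.obj, (AlgSt.subIncl 𝒳 Q).toFunctor.mapIso o.aut, o.map_aut⟩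
      map := fun {X Y} m => ⟨m.hom.hom, (congrArg (fun t : X.pt ⟶ Y.pt => t.hom) m.comm :)⟩ }
  w := rfl

/-- the inertia of a full subcategory is the restriction of the inertia -/
def subInertia : IncI ⥤ᵇ FibCat.fp (AlgSt.subIncl 𝒳 Q) IX :=
  FibCat.fpLift (FibCat.inertiaToBase (FibCat.toSelf (AlgSt.fullSub 𝒳 Q))) (inclInertia Q) (Iso.refl _)

theorem isEquivOver_subInertia : FibCat.IsEquivOver (subInertia Q) := by
  let Θ := subInertia Q
  haveI : Θ.toFunctor.Faithful := ⟨fun {a b} m m' h =>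
    FibCat.InertiaObj.hom_ext (congrArg (fun t => t.hom.fst) h)⟩
  haveI : Θ.toFunctor.Full := ⟨fun {a b} n => by
    let m : a.pt ⟶ b.pt := n.hom.fst
    let k : (inclInertia Q).obj a ⟶ (inclInertia Q).obj b := n.hom.snd
    have w : (AlgSt.subIncl 𝒳 Q).map m ≫ 𝟙 _ = 𝟙 _ ≫ k.hom := n.hom.w
    have w' : m.hom = k.hom := by simpa [AlgSt.subIncl] using w
    have hc : a.aut.hom ≫ m = m ≫ b.aut.hom := by
      refine ObjectProperty.hom_ext _ ?_
      have := k.comm
      rw [← w'] at this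
      exact this
    refine ⟨⟨m, hc⟩, ObjectProperty.hom_ext _ (CategoricalPullback.hom_ext rfl ?_)⟩
    exact FibCat.InertiaObj.hom_ext w'⟩
  refine isEquivOver_of_fullyFaithful Θ fun η => ?_
  obtain ⟨q, hq⟩ := map_iso_hom η
  let z := η.obj.fst
  let o := η.obj.snd
  let i : z.obj ≅ o.pt := η.obj.iso
  let aut : z ≅ z := ObjectProperty.isoMk _ (i ≪≫ o.aut ≪≫ i.symm)
  have hi : 𝒳.p.map i.inv = eqToHom q.symm := by
    rw [← IsIso.Iso.inv_hom i]
    exact map_inv_of_eqToHom _ hq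
  have h0 : 𝒳.p.map o.aut.hom = 𝟙 (𝒳.p.obj o.pt) := o.map_aut
  have hq' : 𝒳.p.map i.hom = eqToHom q := hq
  have hs : (FibCat.toSelf (AlgSt.fullSub 𝒳 Q)).map aut.hom = 𝟙 _ := by
    show 𝒳.p.map (i.hom ≫ o.aut.hom ≫ i.inv) = 𝟙 (𝒳.p.obj z.obj)
    rw [Functor.map_comp, Functor.map_comp, hq', h0, hi]
    simp
  let src : (IncI).obj := ⟨z, aut, hs⟩
  let oo : (FibCat.inertia (FibCat.toSelf 𝒳)).obj := (inclInertia Q).obj src
  let b : oo ≅ o :=
    { hom := ⟨i.hom, by
        show (i.hom ≫ o.aut.hom ≫ i.inv) ≫ i.hom = i.hom ≫ o.aut.hom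
        simp⟩
      inv := ⟨i.inv, by
        show o.aut.hom ≫ i.inv = i.inv ≫ i.hom ≫ o.aut.hom ≫ i.inv
        simp⟩
      hom_inv_id := FibCat.InertiaObj.hom_ext i.hom_inv_id
      inv_hom_id := FibCat.InertiaObj.hom_ext i.inv_hom_id }
  refine ⟨src, ObjectProperty.isoMk _ (CategoricalPullback.mkIso (Iso.refl z) b ?_), rfl,
    (𝒳.p.map_id z.obj).trans (eqToHom_refl _ rfl).symm⟩
  show 𝟙 z.obj ≫ i.hom = 𝟙 z.obj ≫ i.hom
  rfl

theorem repWith_inertia_fullSub_iff {P : MorphismProperty (Sp S)} :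
    RepByAlgSpWith P (FibCat.fpFst (AlgSt.subIncl 𝒳 Q) IX) ↔
      RepByAlgSpWith P (FibCat.inertiaToBase (FibCat.toSelf (AlgSt.fullSub 𝒳 Q))) :=
  repWith_iff_of_equiv P (FibCat.fpFst (AlgSt.subIncl 𝒳 Q) IX)
    (FibCat.inertiaToBase (FibCat.toSelf (AlgSt.fullSub 𝒳 Q))) (subInertia Q) (BasedFunctor.id _)
    (isEquivOver_subInertia Q) isEquivOver_id (Iso.refl _)

end Groth.Agent.GerbDense

end
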