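import Groth.Agent.GerbDense.GenFlat
import Groth.Agent.GerbDense.Inertia
import Groth.Agent.AlgStLib.QC2
import Groth.Agent.AlgStLib.SmLocally

/-!
# Reduced stacks with quasi-compact inertia are gerbes over a dense open
-/

set_option autoImplicit false
set_option backward.isDefEq.respectTransparency false
set_option backward.isDefEq.respectTransparency.types false
set_option linter.style.haveILetI false
universe u

noncomputable section

namespace Groth.Agent.GerbDense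

open CategoryTheory CategoryTheory.Limits AlgebraicGeometry Opposite Groth.Agent.AlgSpLib Groth.Agent.StkBasic
  Groth.Agent.FibCatRep Groth.Agent.FibCat2Misc Groth.Agent.AlgStLib
open _root_.AlgSp _root_.AlgSt

variable {S : Scheme.{u}} {𝒳 : AlgSt.Cat S}

local notation "AS" => IsAlgStack Scheme.fppfPrecoverage
local notation "IX" => FibCat.inertiaToBase (FibCat.toSelf 𝒳)

theorem repByAlgSp1_inertia (h𝒳 : AS 𝒳) : RepByAlgSp1 IX :=
  repByAlgSp1_of_with (repWith_inertia_of_diag (repWith_lft_diag_toSelf h𝒳))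

/-- generic flatness of the inertia on a reduced chart -/
theorem exists_dense_flat_inertia (h𝒳 : AS 𝒳) (hI : AlgSt.IsQuasiCompactMor Scheme.fppfPrecoverage IX)
    {U : Over S} [IsReduced U.left] (x : AlgSt.ofSp (spOf U).obj ⥤ᵇ 𝒳) :
    ∃ Ω : U.left.Opens, Dense (Ω : Set U.left) ∧
      RepByAlgSpWith (LocP @Flat) (FibCat.fpFst (BasedFunctor.comp (Stk.ofPshMap ((yon S).map (openIncl U Ω)).hom) x) IX) ∧
      RepByAlgSpWith (LocP @LocallyOfFinitePresentation)
        (FibCat.fpFst (BasedFunctor.comp (Stk.ofPshMap ((yon S).map (openIncl U Ω)).hom) x) IX) := by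
  haveI := respectsIso_onSp (cls_lft (S := S)).bc
  haveI := respectsIso_onSp (cls_qc (S := S)).bc
  have hr := repByAlgSp1_inertia h𝒳
  have hl := repWith_inertia_of_diag (repWith_lft_diag_toSelf h𝒳)
  have hq := repWith_qc_of_isQuasiCompactMor hr hI
  obtain ⟨P, e, he, hs, hP, hlft⟩ := (AlgStLib.repWith_iff _ IX).1 (repWith_onSp_iff.2 hl) U x
  obtain ⟨_, _, hqc⟩ := good_of_model (repWith_onSp_iff.2 hq) he
  have hU := IsAlgSpace.yon_obj (S := S) U
  let π : (⟨P, hs⟩ : Sp S) ⟶ (yon S).obj U := ObjectProperty.homMk (prjMap e)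
  obtain ⟨Ω, hΩ, hg⟩ := exists_dense_flat_lfp hP π (hlft hP hU) (hqc hP hU)
  have sq := IsPullback.of_hasPullback π ((yon S).map (openIncl U Ω))
  have hQ : IsAlgSpace (pullback π ((yon S).map (openIncl U Ω))) :=
    isAlgSpace_of_isPullback_space hU hP (IsAlgSpace.yon_obj _) sq
  obtain ⟨g₁, g₂⟩ := hg _ _ sq
  obtain ⟨e', he', hprj⟩ := exists_model_baseChange ((yon S).map (openIncl U Ω)).hom he
    (sq.map (sheafToPresheaf (J S) (Type (u + 1))))
  let V : AlgSp.Space S := ⟨_, hQ⟩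
  let a : V ⟶ spOf (openOver U Ω) := ObjectProperty.homMk (pullback.snd π ((yon S).map (openIncl U Ω)))
  let i : BasedFunctor.comp e' (FibCat.fpFst (BasedFunctor.comp (Stk.ofPshMap ((yon S).map (openIncl U Ω)).hom) x) IX) ≅
      AlgSt.ofSpMap a.hom := (mapOfIso _).symm ≪≫ eqToIso (congrArg (fun k => Stk.ofPshMap k) hprj)
  exact ⟨Ω, hΩ, repWith_fpFst_of_model (V := V) (W := spOf (openOver U Ω)) cls_flat.bc he' i g₁,
    repWith_fpFst_of_model (V := V) (W := spOf (openOver U Ω)) cls_lfp.bc he' i g₂⟩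

/-- descending properties of the inertia to a substack covered by a chart -/
theorem repWith_inertia_of_chart (h𝒳 : AS 𝒳) {Q : MorphismProperty (Sp S)} (hb : BCStable Q)
    (hl : IsLocalOnBase (IsFppfCover (S := S)) Q) {Q' : 𝒳.obj → Prop}
    (hA : AS (AlgSt.fullSub 𝒳 Q')) {W : Over S} (w : AlgSt.ofSp (spOf W).obj ⥤ᵇ AlgSt.fullSub 𝒳 Q')
    (hw : RepByAlgSpWith (LocP @Smooth) w) (hws : RepByAlgSpWith AlgSp.IsSurjectiveMor w)
    (h : RepByAlgSpWith Q (FibCat.fpFst (BasedFunctor.comp w (AlgSt.subIncl 𝒳 Q')) IX)) :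
    RepByAlgSpWith Q (FibCat.inertiaToBase (FibCat.toSelf (AlgSt.fullSub 𝒳 Q'))) := by
  let i := AlgSt.subIncl 𝒳 Q'
  refine (repWith_inertia_fullSub_iff Q').1 (repWith_of_lifts hb hl (repByAlgSp1_fpFst IX i (repByAlgSp1_inertia h𝒳))
    (lifts_of_fppf (repWith_mono hw fun _ _ a _ ha => locP_mono (fun _ _ r hr => by haveI : Smooth r := hr; infer_instance) a ha)
      (repWith_mono hw fun _ _ a _ ha => locP_mono (fun _ _ r hr => by haveI : Smooth r := hr; infer_instance) a ha) hws) ?_)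
  exact (repWith_iff_of_equiv Q (FibCat.fpFst (BasedFunctor.comp w i) IX) (FibCat.fpFst w (FibCat.fpFst i IX))
    (pasteFun w i IX) (BasedFunctor.id _) (isEquivOver_pasteFun w i IX) isEquivOver_id (Iso.refl _)).1 h

/-- reduced stacks with quasi-compact inertia are gerbes over a dense open set of points -/
theorem exists_dense_gerbe (h𝒳 : AS 𝒳) (hred : AlgSt.SmoothLocally (fun T => IsReduced T) 𝒳)
    (hI : AlgSt.IsQuasiCompactMor Scheme.fppfPrecoverage IX) :
    ∃ O : Set (AlgSt.Points 𝒳), IsOpen O ∧ Dense O ∧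
      Gerb.IsAlgGerbe Scheme.fppfPrecoverage (AlgSt.fullSub 𝒳 (InSet O)) := by
  obtain ⟨U, x, hx, hxs⟩ := exists_atlas_sp h𝒳
  let xU : FibCat.overCat U ⥤ᵇ 𝒳 := BasedFunctor.comp (ofOverCat U) x
  haveI : IsReduced U.left := hred U xU ((repWith_ofOverCat_iff _ x).2 hx)
  obtain ⟨Ω, hΩ, f₁, f₂⟩ := exists_dense_flat_inertia h𝒳 hI x
  let U' := openOver U Ω
  let x' : AlgSt.ofSp (spOf U').obj ⥤ᵇ 𝒳 := BasedFunctor.comp (Stk.ofPshMap ((yon S).map (openIncl U Ω)).hom) x
  have hj : RepWith @Etale ((yon S).map (openIncl U Ω)) :=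
    (repWith_yon_iff _).2 (inferInstanceAs (Etale Ω.ι))
  have hx' : RepByAlgSpWith (LocP @Smooth) x' :=
    AlgStLib.repWith_comp (isFibGrpd_ofSpace _) (isFibGrpd_ofSpace _) cls_smooth.bc cls_smooth.comp cls_smooth.loc
      (repWith_smooth_ofPshMap_of_etale (IsAlgSpace.yon_obj U') (IsAlgSpace.yon_obj U) _ hj) hx
  have hfl : RepByAlgSpWith (LocP @Flat) x' :=
    repWith_mono hx' fun _ _ a _ ha => locP_mono (fun _ _ r hr => by haveI : Smooth r := hr; infer_instance) a ha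
  have hfp : RepByAlgSpWith (LocP @LocallyOfFinitePresentation) x' :=
    repWith_mono hx' fun _ _ a _ ha => locP_mono (fun _ _ r hr => by haveI : Smooth r := hr; infer_instance) a ha
  let O : Set (AlgSt.Points 𝒳) := Set.range (AlgSt.Points.map x')
  have hO : IsOpen O := (isOpenMap_map_space (U := spOf U') h𝒳.isStack.1 x' hfl hfp).isOpen_range
  have hmem : ∀ t : ↥U'.left, AlgSt.Points.ofChart xU ((openIncl U Ω).left t) ∈ O := fun t => by
    refine ⟨AlgSt.Points.ofChart (ofOverCat U') t, ?_⟩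
    rw [map_ofChart, ← ofChart_overMap xU (openIncl U Ω) t]
    rfl
  have hd : Dense O := by
    refine dense_iff_inter_open.2 fun V hV ⟨p, hp⟩ => ?_
    obtain ⟨t, rfl⟩ := exists_point_of_surjective h𝒳.isStack.1 xU ((repWith_ofOverCat_iff _ x).2 hxs) p
    obtain ⟨s, hsV, hsΩ⟩ := hΩ.inter_open_nonempty _ ((continuous_ofChart h𝒳 xU).isOpen_preimage _ hV) ⟨t, hp⟩
    exact ⟨_, hsV, hmem ⟨s, hsΩ⟩⟩
  refine ⟨O, hO, hd, ?_⟩
  have hA : AS (AlgSt.fullSub 𝒳 (InSet O)) := (isOpenSubstack_inSet h𝒳 hO).2.1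
  let w : AlgSt.ofSp (spOf U').obj ⥤ᵇ AlgSt.fullSub 𝒳 (InSet O) :=
    liftSub (InSet O) x' fun a => inSet_range_map (isFibGrpd_ofSpace _) h𝒳.isStack.1 x' a
  have hw : RepByAlgSpWith (LocP @Smooth) w := repWith_of_comp_ff _ (i := AlgSt.subIncl 𝒳 (InSet O)) hx'
  have hws : RepByAlgSpWith AlgSp.IsSurjectiveMor w := by
    refine repWith_surjective_of_isSurjective (isFibGrpd_ofSpace _) hA.isStack.1 (repByAlgSp1_of_with hw) fun z => ?_
    have hz : AlgSt.Points.map (AlgSt.subIncl 𝒳 (InSet O)) z ∈ O :=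
      (range_subIncl_inSet O).subset ⟨z, rfl⟩
    obtain ⟨q, hq⟩ := hz
    exact ⟨q, injective_map_subIncl h𝒳.isStack.1 (fun m h => h.of_hom m) ((map_comp_points _ _ q).symm.trans hq)⟩
  have hI' : AS (FibCat.inertia (FibCat.toSelf (AlgSt.fullSub 𝒳 (InSet O)))) := IsoSh.isAlgStack_inertia hA
  exact (IsoSh.isAlgGerbe_iff hA).2
    ⟨locQ_of_repWith st_flat cls_flat.bc cls_flat.loc hI' hA
        (repWith_inertia_of_chart h𝒳 cls_flat.bc cls_flat.loc hA w hw hws f₁),
      locQ_of_repWith st_lfp cls_lfp.bc cls_lfp.loc hI' hA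
        (repWith_inertia_of_chart h𝒳 cls_lfp.bc cls_lfp.loc hA w hw hws f₂)⟩

end Groth.Agent.GerbDense

end
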