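import Mathlib.AlgebraicGeometry.Morphisms.ClosedImmersion
import Mathlib.AlgebraicGeometry.AffineScheme
import Mathlib.Algebra.Category.Ring.Instances
import Mathlib.RingTheory.Localization.FractionRing

/-!
# Fibres over points without specialisations in the image
-/

set_option autoImplicit false
set_option backward.isDefEq.respectTransparency false
universe u

noncomputable section

namespace Groth.Agent.GerbDense

open CategoryTheory CategoryTheory.Limits AlgebraicGeometry

/-- the point of the fraction field of a quotient -/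
def fracPoint {A : CommRingCat.{u}} (p : PrimeSpectrum A) :
    Spec (CommRingCat.of (FractionRing (A ⧸ p.asIdeal))) ⟶ Spec A :=
  Spec.map (CommRingCat.ofHom (algebraMap (A ⧸ p.asIdeal) (FractionRing (A ⧸ p.asIdeal)))) ≫
    Spec.map (CommRingCat.ofHom (Ideal.Quotient.mk p.asIdeal))

theorem fracPoint_apply {A : CommRingCat.{u}} (p : PrimeSpectrum A)
    (t : Spec (CommRingCat.of (FractionRing (A ⧸ p.asIdeal)))) : fracPoint p t = p := by
  refine PrimeSpectrum.ext ?_
  have ht : (t : PrimeSpectrum (FractionRing (A ⧸ p.asIdeal))).asIdeal = ⊥ :=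
    (Ideal.eq_bot_or_top _).resolve_right t.isPrime.ne_top
  show (t.asIdeal.comap (algebraMap (A ⧸ p.asIdeal) (FractionRing (A ⧸ p.asIdeal)))).comap
    (Ideal.Quotient.mk p.asIdeal) = p.asIdeal
  rw [ht, ← RingHom.ker_eq_comap_bot,
    (RingHom.injective_iff_ker_eq_bot _).1 (IsFractionRing.injective (A ⧸ p.asIdeal) (FractionRing (A ⧸ p.asIdeal))),
    ← RingHom.ker_eq_comap_bot, Ideal.mk_ker]

/-- morphisms to the spectrum of a domain hitting only the generic point factor through it -/
theorem exists_lift_generic {B : CommRingCat.{u}} [IsDomain B] {W : Scheme.{u}} (g : W ⟶ Spec B)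
    (hg : ∀ w, (g w : PrimeSpectrum B).asIdeal = ⊥) :
    ∃ l : W ⟶ Spec (CommRingCat.of (FractionRing B)),
      l ≫ Spec.map (CommRingCat.ofHom (algebraMap B (FractionRing B))) = g := by
  let φ : B ⟶ Γ(W, ⊤) := (Scheme.ΓSpecIso B).inv ≫ g.appTop
  have hu : ∀ b : nonZeroDivisors B, IsUnit (φ.hom b) := fun b => by
    have e : W.basicOpen (φ.hom b) = ⊤ := by
      refine top_le_iff.1 fun w _ => ?_
      have h1 : g ⁻¹ᵁ (Spec B).basicOpen ((Scheme.ΓSpecIso B).inv.hom b) = W.basicOpen (φ.hom b) :=
        Scheme.preimage_basicOpen g _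
      rw [← h1]
      show g w ∈ (Spec B).basicOpen ((Scheme.ΓSpecIso B).inv.hom b)
      rw [basicOpen_eq_of_affine]
      show (b : B) ∉ (g w : PrimeSpectrum B).asIdeal
      rw [hg w]
      exact nonZeroDivisors.coe_ne_zero b
    exact RingedSpace.isUnit_of_isUnit_germ _ ⊤ _ fun x _ =>
      (Scheme.mem_basicOpen W (φ.hom b) x trivial).1 (e.ge trivial)
  let ψ : CommRingCat.of (FractionRing B) ⟶ Γ(W, ⊤) := CommRingCat.ofHom (IsLocalization.lift hu)
  refine ⟨W.toSpecΓ ≫ Spec.map ψ, ?_⟩
  rw [Category.assoc, ← Spec.map_comp]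
  have e : CommRingCat.ofHom (algebraMap B (FractionRing B)) ≫ ψ = φ :=
    CommRingCat.hom_ext (IsLocalization.lift_comp hu)
  rw [e, Spec.map_comp, ← Scheme.toSpecΓ_naturality_assoc, toSpecΓ_SpecMap_ΓSpecIso_inv, Category.comp_id]

/-- the fibre over a point without specialisations in the image is closed, with its reduced structure -/
theorem isClosedImmersion_fst_fracPoint {A : CommRingCat.{u}} (p : PrimeSpectrum A) {W : Scheme.{u}}
    (h : W ⟶ Spec A) (hmax : ∀ w, p.asIdeal ≤ (h w : PrimeSpectrum A).asIdeal → h w = p) :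
    IsClosedImmersion (pullback.fst h (fracPoint p)) := by
  let j := Spec.map (CommRingCat.ofHom (algebraMap (A ⧸ p.asIdeal) (FractionRing (A ⧸ p.asIdeal))))
  let ι : Spec (CommRingCat.of (A ⧸ p.asIdeal)) ⟶ Spec A := Spec.map (CommRingCat.ofHom (Ideal.Quotient.mk p.asIdeal))
  haveI : IsClosedImmersion ι := IsClosedImmersion.spec_of_surjective _ Ideal.Quotient.mk_surjective
  haveI : Epi (CommRingCat.ofHom (algebraMap (A ⧸ p.asIdeal) (FractionRing (A ⧸ p.asIdeal)))) :=
    IsLocalization.epi (nonZeroDivisors (A ⧸ p.asIdeal)) _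
  haveI : Mono j :=
    inferInstanceAs (Mono (Scheme.Spec.map (CommRingCat.ofHom (algebraMap (A ⧸ p.asIdeal) (FractionRing (A ⧸ p.asIdeal)))).op))
  haveI : IsDomain (CommRingCat.of (A ⧸ p.asIdeal)) := inferInstanceAs (IsDomain (A ⧸ p.asIdeal))
  obtain ⟨l, hl⟩ := exists_lift_generic (B := CommRingCat.of (A ⧸ p.asIdeal)) (pullback.snd h ι) fun z => by
    let q : PrimeSpectrum (A ⧸ p.asIdeal) := pullback.snd h ι z
    have e : h (pullback.fst h ι z) = ι q := by
      rw [← Scheme.Hom.comp_apply, pullback.condition, Scheme.Hom.comp_apply]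
    have hq : p.asIdeal ≤ (ι q : PrimeSpectrum A).asIdeal := fun a ha => by
      show Ideal.Quotient.mk p.asIdeal a ∈ q.asIdeal
      rw [Ideal.Quotient.eq_zero_iff_mem.2 ha]
      exact zero_mem _
    have e' := hmax (pullback.fst h ι z) (by rw [e]; exact hq)
    rw [e] at e'
    have h2 : q.asIdeal.comap (Ideal.Quotient.mk p.asIdeal) = p.asIdeal := congrArg PrimeSpectrum.asIdeal e'
    show q.asIdeal = ⊥
    rw [← Ideal.map_comap_of_surjective _ Ideal.Quotient.mk_surjective q.asIdeal, h2, Ideal.map_quotient_self]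
  change l ≫ j = _ at hl
  have hm : fracPoint p = j ≫ ι := rfl
  let f : pullback h (fracPoint p) ⟶ pullback h ι :=
    pullback.lift (pullback.fst _ _) (pullback.snd _ _ ≫ j) (by rw [Category.assoc, ← hm, pullback.condition])
  let g : pullback h ι ⟶ pullback h (fracPoint p) :=
    pullback.lift (pullback.fst _ _) l (by rw [hm, ← Category.assoc, hl, pullback.condition])
  haveI : IsIso f := by
    refine ⟨g, ?_, ?_⟩
    · refine pullback.hom_ext (by simp [f, g]) ((cancel_mono j).1 ?_)
      simp only [f, g, Category.assoc, pullback.lift_snd, Category.id_comp]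
      rw [hl, pullback.lift_snd]
    · refine pullback.hom_ext (by simp [f, g]) ?_
      simp only [f, g, Category.assoc, Category.id_comp]
      rw [pullback.lift_snd, pullback.lift_snd_assoc, hl]
  have e : pullback.fst h (fracPoint p) = f ≫ pullback.fst h ι := (pullback.lift_fst _ _ _).symm
  rw [e]
  infer_instance

end Groth.Agent.GerbDense

end
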