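import Groth.Agent.AlgSpLib.LocP
import Groth.Agent.AlgSpLib.QCompact
import Groth.Agent.AlgStLib.LocQClasses
import Groth.Agent.FppfSource.Scheme
import Groth.Agent.GrpdSlice.Main
import Groth.Agent.GenFree.Scheme

/-!
# Generic flatness for algebraic spaces of finite type over a reduced scheme
-/

set_option autoImplicit false
set_option backward.isDefEq.respectTransparency false
set_option backward.isDefEq.respectTransparency.types false
set_option linter.style.haveILetI false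
universe u

noncomputable section

namespace Groth.Agent.GerbDense

open CategoryTheory CategoryTheory.Limits AlgebraicGeometry Opposite Groth.Agent.AlgSpLib Groth.Agent.AlgStLib
open _root_.AlgSp

variable {S : Scheme.{u}}

/-- an open subscheme over the base -/
def openOver (U : Over S) (O : U.left.Opens) : Over S := Over.mk (O.ι ≫ U.hom)

/-- the inclusion of an open subscheme -/
def openIncl (U : Over S) (O : U.left.Opens) : openOver U O ⟶ U := Over.homMk O.ι rfl

/-- a morphism is flat and locally of finite presentation over an open -/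
def GoodOn {W U : Scheme.{u}} (h : W ⟶ U) (O : U.Opens) : Prop :=
  Flat ((h ⁻¹ᵁ O).ι ≫ h) ∧ LocallyOfFinitePresentation ((h ⁻¹ᵁ O).ι ≫ h)

theorem goodOn_restrict {W U : Scheme.{u}} {h : W ⟶ U} {O : U.Opens} (g : GoodOn h O) :
    Flat (h ∣_ O) ∧ LocallyOfFinitePresentation (h ∣_ O) := by
  obtain ⟨g₁, g₂⟩ := g
  rw [← morphismRestrict_ι] at g₁ g₂
  exact ⟨MorphismProperty.of_postcomp (W := @Flat) (W' := @IsOpenImmersion) _ O.ι inferInstance g₁,
    MorphismProperty.of_postcomp (W := @LocallyOfFinitePresentation) (W' := @IsOpenImmersion) _ O.ι inferInstance g₂⟩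

theorem goodOn_iSup {W U : Scheme.{u}} (h : W ⟶ U) {ι : Type u} (O : ι → U.Opens) (g : ∀ i, GoodOn h (O i)) :
    GoodOn h (⨆ i, O i) := by
  have key : ∀ (P : MorphismProperty Scheme.{u}) [IsZariskiLocalAtSource P],
      (∀ i, P ((h ⁻¹ᵁ O i).ι ≫ h)) → P ((h ⁻¹ᵁ ⨆ i, O i).ι ≫ h) := by
    intro P _ hP
    let T : W.Opens := h ⁻¹ᵁ ⨆ i, O i
    have hle : ∀ i, h ⁻¹ᵁ O i ≤ T := fun i => fun x hx => le_iSup O i hx
    let 𝒰 : T.toScheme.OpenCover := T.toScheme.openCoverOfIsOpenCover (fun i => T.ι ⁻¹ᵁ (h ⁻¹ᵁ O i)) (by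
      refine TopologicalSpace.Opens.ext (Set.ext fun x => iff_of_true ?_ trivial)
      have h2 : h (T.ι x) ∈ ⨆ i, O i := x.2
      simpa [T] using h2)
    refine (IsZariskiLocalAtSource.iff_of_openCover (P := P) 𝒰).2 fun i => ?_
    let i' : ι := i
    have hle' : T.ι ⁻¹ᵁ (h ⁻¹ᵁ O i') ≤ T.ι ⁻¹ᵁ (h ⁻¹ᵁ O i') := le_rfl
    let m : (T.ι ⁻¹ᵁ (h ⁻¹ᵁ O i')).toScheme ⟶ (h ⁻¹ᵁ O i').toScheme := T.ι.resLE _ _ hle'
    haveI : IsOpenImmersion (m ≫ (h ⁻¹ᵁ O i').ι) := by
      rw [Scheme.Hom.resLE_comp_ι]; infer_instance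
    haveI : IsOpenImmersion m := IsOpenImmersion.of_comp m (h ⁻¹ᵁ O i').ι
    have := IsZariskiLocalAtSource.comp (P := P) (hP i') m
    rw [Scheme.Hom.resLE_comp_ι_assoc] at this
    exact this
  exact ⟨key _ fun i => (g i).1, key _ fun i => (g i).2⟩

variable {F : Sp S} {U : Over S}

theorem ofScheme_map' {T T' : Over S} (φ : T ⟶ T') (t : ↥T.left) :
    Points.map ((yon S).map φ) (Points.ofScheme T t) = Points.ofScheme T' (φ.left t) := by
  rw [← ofScheme_map φ t, Points.map_ofPt, Category.id_comp]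

/-- flatness and finite presentation of a chart over an open from those of a chart of the preimage -/
theorem goodOn_of_cover (hF : IsAlgSpace F) {W : Over S} {p : (yon S).obj W ⟶ F} (hp : RepWith @Etale p)
    {π : F ⟶ (yon S).obj U} {h : W ⟶ U} (comm : p ≫ π = (yon S).map h) (O : U.left.Opens) (W' : W.left.Opens)
    (h₁ : Flat (W'.ι ≫ h.left)) (h₂ : LocallyOfFinitePresentation (W'.ι ≫ h.left))
    (hcov : ∀ w : ↥W.left, h.left w ∈ O → ∃ w' ∈ W', Points.ofPt p w = Points.ofPt p w') :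
    GoodOn h.left O := by
  let T : W.left.Opens := h.left ⁻¹ᵁ O
  let a : (yon S).obj (openOver W T) ⟶ F := (yon S).map (openIncl W T) ≫ p
  let b : (yon S).obj (openOver W W') ⟶ F := (yon S).map (openIncl W W') ≫ p
  obtain ⟨R, r₁, r₂, sq⟩ := exists_pullback hF.diag a b
  have ha : RepWith @Etale a := AlgSpLib.repWith_comp ((repWith_yon_iff _).2 (inferInstanceAs (Etale T.ι))) hp
  have hb : RepWith @Etale b := AlgSpLib.repWith_comp ((repWith_yon_iff _).2 (inferInstanceAs (Etale W'.ι))) hp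
  haveI : Etale r₁.left := hb.2 a _ r₁ sq.flip
  haveI : Etale r₂.left := ha.2 b _ r₂ sq
  haveI : Surjective r₁.left := ⟨fun w => by
    obtain ⟨w', hw', e⟩ := hcov (T.ι w) (by exact w.2)
    have e' : Points.ofPt a w = Points.ofPt b ⟨w', hw'⟩ := by
      simp only [a, b, ofPt_comp]
      exact e
    obtain ⟨r, hr, -⟩ := (ofPt_eq_iff sq _ _).1 e'
    exact ⟨r, hr⟩⟩
  have key : r₁.left ≫ T.ι ≫ h.left = r₂.left ≫ W'.ι ≫ h.left := by
    have e : r₁ ≫ openIncl W T ≫ h = r₂ ≫ openIncl W W' ≫ h := (yon S).map_injective (by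
      simp only [Functor.map_comp, ← comm]
      exact congrArg (· ≫ π) (by simpa [a, b] using sq.w))
    exact congrArg CommaMorphism.left e
  haveI : Flat (r₁.left ≫ T.ι ≫ h.left) := by rw [key]; infer_instance
  haveI : LocallyOfFinitePresentation (r₁.left ≫ T.ι ≫ h.left) := by rw [key]; infer_instance
  exact ⟨GrpdLib.flat_of_flat_comp r₁.left (T.ι ≫ h.left), FppfSource.lfp r₁.left (T.ι ≫ h.left)⟩

theorem exists_goodOn_dense (hF : IsAlgSpace F) [IsReduced U.left] (π : F ⟶ (yon S).obj U)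
    (hlft : LocP @LocallyOfFiniteType π) (hqc : AlgSp.IsQuasiCompactMor π) {W : Over S}
    {p : (yon S).obj W ⟶ F} (hp : RepWith @Etale p) (hps : RepWith @Surjective p) {h : W ⟶ U}
    (comm : p ≫ π = (yon S).map h) : ∃ Ω : U.left.Opens, Dense (Ω : Set U.left) ∧ GoodOn h.left Ω := by
  classical
  haveI : LocallyOfFiniteType h.left :=
    hlft p (𝟙 _) h hp (AlgSp.repWith_id _ U) (by rw [Category.comp_id, comm])
  let T := {O : U.left.Opens // GoodOn h.left O}
  refine ⟨⨆ O : T, O.1, ?_, goodOn_iSup h.left _ fun O : T => O.2⟩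
  rw [dense_iff_inter_open]
  intro O hO ⟨x, hx⟩
  obtain ⟨A, hA, hxA, hAO⟩ := exists_isAffineOpen_mem_and_subset (X := U.left) (x := x) (U := ⟨O, hO⟩) hx
  haveI : IsAffine A.toScheme := hA
  haveI : CompactSpace ↥(openOver U A).left := inferInstanceAs (CompactSpace ↥A.toScheme)
  have sqA := IsPullback.of_hasPullback π ((yon S).map (openIncl U A))
  have hVA := compactSpace_of_isQuasiCompactSp
    (hqc (IsAlgSpace.yon_obj _) (isQuasiCompactSp_yon (openOver U A)) _ _ _ sqA)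
  let K : Set (Points F) := Set.range (Points.map (pullback.fst π ((yon S).map (openIncl U A))))
  have hK : IsCompact K := isCompact_range (Points.continuous_map _)
  have hKmem : ∀ w : ↥W.left, h.left w ∈ A → Points.ofPt p w ∈ K := fun w hw => by
    obtain ⟨q, hq, -⟩ := exists_point_of_isPullback sqA (Points.ofPt p w) (Points.ofScheme (openOver U A) ⟨_, hw⟩)
      (by rw [Points.map_ofPt, comm]
          exact (ofScheme_map h w).trans (ofScheme_map' (openIncl U A) ⟨_, hw⟩).symm)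
    exact ⟨q, hq⟩
  have hKmem' : ∀ w : ↥W.left, Points.ofPt p w ∈ K → h.left w ∈ A := fun w ⟨q, hq⟩ => by
    obtain ⟨z, hz⟩ := (Points.schemeEquiv (openOver U A)).surjective
      (Points.map (pullback.snd π ((yon S).map (openIncl U A))) q)
    have e : Points.map π (Points.map (pullback.fst π ((yon S).map (openIncl U A))) q) =
        Points.map ((yon S).map (openIncl U A)) (Points.map (pullback.snd π ((yon S).map (openIncl U A))) q) := by
      rw [← Points.map_comp, ← Points.map_comp, sqA.w]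
    rw [hq, Points.map_ofPt, comm, ← hz] at e
    have e' : Points.ofScheme U (h.left w) = Points.ofScheme U ((openIncl U A).left z) :=
      ((ofScheme_map h w).symm.trans e).trans (ofScheme_map' (openIncl U A) z)
    rw [(Points.schemeEquiv U).injective e']
    exact z.2
  let Z := {V : W.left.Opens // IsAffineOpen V ∧ V ≤ h.left ⁻¹ᵁ A}
  obtain ⟨t, ht⟩ := hK.elim_finite_subcover (fun V : Z => Points.ofPt p '' (V.1 : Set W.left))
    (fun V => isOpenMap_ofPt (repWith_universallyOpen_of_etale hp) _ V.1.2) (fun y hy => by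
      obtain ⟨w, rfl⟩ := ofPt_surjective hps y
      obtain ⟨V, hV, hwV, hVA⟩ := exists_isAffineOpen_mem_and_subset (X := W.left) (U := h.left ⁻¹ᵁ A) (hKmem' w hy)
      exact Set.mem_iUnion.2 ⟨⟨V, hV, hVA⟩, w, hwV, rfl⟩)
  let W' : W.left.Opens := ⨆ V ∈ t, V.1
  haveI : CompactSpace ↥W'.toScheme := isCompact_iff_compactSpace.1 (by
    simp only [W', TopologicalSpace.Opens.coe_iSup]
    exact t.isCompact_biUnion fun V _ => V.2.1.isCompact)
  have hle : W' ≤ h.left ⁻¹ᵁ A := iSup₂_le fun V _ => V.2.2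
  let h' : W'.toScheme ⟶ A.toScheme := h.left.resLE A W' hle
  haveI : LocallyOfFiniteType (h' ≫ A.ι) := by rw [Scheme.Hom.resLE_comp_ι]; infer_instance
  haveI : LocallyOfFiniteType h' := locallyOfFiniteType_of_comp h' A.ι
  haveI : QuasiCompact h' := quasiCompact_of_compactSpace h'
  obtain ⟨D, hD, hD₁, hD₂⟩ := GenFree.exists_dense_flat_fp h'
  obtain ⟨d, hd⟩ : ∃ d, d ∈ D := hD.nonempty_iff.2 ⟨⟨x, hxA⟩⟩
  let O₁ : U.left.Opens := A.ι ''ᵁ D
  have hO₁ : O₁ ≤ A := fun y hy => by obtain ⟨z, -, rfl⟩ := hy; exact z.2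
  have hgood : GoodOn h.left O₁ := by
    haveI := hD₁
    haveI := hD₂
    have hr : ∀ w : ↥W.left, w ∈ W' ⊓ h.left ⁻¹ᵁ O₁ ↔ ∃ v : ↥W'.toScheme, h' v ∈ D ∧ W'.ι v = w := fun w => by
      constructor
      · rintro ⟨hw, z, hz, hz'⟩
        refine ⟨⟨w, hw⟩, ?_, rfl⟩
        rw [show h' ⟨w, hw⟩ = z from
          Subtype.ext ((congrArg (fun g => g.base ⟨w, hw⟩) (Scheme.Hom.resLE_comp_ι h.left hle)).trans hz'.symm)]
        exact hz
      · rintro ⟨v, hv, rfl⟩
        exact ⟨v.2, h' v, hv, congrArg (fun g => g.base v) (Scheme.Hom.resLE_comp_ι h.left hle)⟩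
    have e₀ : (W' ⊓ h.left ⁻¹ᵁ O₁).ι.opensRange = ((h' ⁻¹ᵁ D).ι ≫ W'.ι).opensRange := by
      refine TopologicalSpace.Opens.ext (Set.ext fun w => ?_)
      simp only [Scheme.Hom.coe_opensRange, Scheme.Opens.range_ι, Scheme.Hom.comp_base, TopCat.coe_comp,
        Set.range_comp]
      exact (hr w).trans (by simp)
    let e := IsOpenImmersion.isoOfRangeEq (W' ⊓ h.left ⁻¹ᵁ O₁).ι ((h' ⁻¹ᵁ D).ι ≫ W'.ι)
      (congrArg (fun V : W.left.Opens => (V : Set W.left)) e₀)
    have he : (W' ⊓ h.left ⁻¹ᵁ O₁).ι ≫ h.left = e.hom ≫ (h' ∣_ D) ≫ D.ι ≫ A.ι := by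
      rw [morphismRestrict_ι_assoc, Scheme.Hom.resLE_comp_ι, ← Category.assoc (h' ⁻¹ᵁ D).ι, ← Category.assoc,
        IsOpenImmersion.isoOfRangeEq_hom_fac]
    refine goodOn_of_cover hF hp comm O₁ (W' ⊓ h.left ⁻¹ᵁ O₁) (by rw [he]; infer_instance) (by rw [he]; infer_instance)
      fun w hw => ?_
    obtain ⟨V, hV⟩ := Set.mem_iUnion.1 (ht (hKmem w (hO₁ hw)))
    obtain ⟨hVt, w', hw', e'⟩ := Set.mem_iUnion.1 hV
    refine ⟨w', ⟨?_, ?_⟩, e'.symm⟩
    · exact (le_iSup₂ (f := fun V (_ : V ∈ t) => V.1) V hVt : V.1 ≤ W') hw'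
    · have e'' := congrArg (Points.map π) e'
      rw [Points.map_ofPt, Points.map_ofPt, comm] at e''
      rw [ofScheme_map, ofScheme_map] at e''
      show h.left w' ∈ O₁
      rw [(Points.schemeEquiv U).injective e'']
      exact hw
  refine ⟨A.ι d, hAO (d : ↥A.toScheme).2, ?_⟩
  exact (le_iSup (fun O : T => O.1) ⟨O₁, hgood⟩) ⟨d, hd, rfl⟩

/-- generic flatness for algebraic spaces of finite type over a reduced scheme -/
theorem exists_dense_flat_lfp (hF : IsAlgSpace F) [IsReduced U.left] (π : F ⟶ (yon S).obj U)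
    (hlft : LocP @LocallyOfFiniteType π) (hqc : AlgSp.IsQuasiCompactMor π) :
    ∃ Ω : U.left.Opens, Dense (Ω : Set U.left) ∧ ∀ ⦃Q : Sp S⦄ (fst : Q ⟶ F) (snd : Q ⟶ (yon S).obj (openOver U Ω)),
      IsPullback fst snd π ((yon S).map (openIncl U Ω)) →
        LocP @Flat snd ∧ LocP @LocallyOfFinitePresentation snd := by
  obtain ⟨W, p, hp, hps⟩ := hF.atlas
  obtain ⟨h, hh⟩ := exists_map_eq (p ≫ π)
  obtain ⟨Ω, hΩ, hg⟩ := exists_goodOn_dense hF π hlft hqc hp hps hh.symm
  refine ⟨Ω, hΩ, fun Q fst snd sq => ?_⟩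
  have hQ : IsAlgSpace Q := isAlgSpace_of_isPullback_space (IsAlgSpace.yon_obj U) hF (IsAlgSpace.yon_obj _) sq
  let T : W.left.Opens := h.left ⁻¹ᵁ Ω
  let k : openOver W T ⟶ openOver U Ω := Over.homMk (h.left ∣_ Ω) (by
    show (h.left ∣_ Ω) ≫ Ω.ι ≫ U.hom = T.ι ≫ W.hom
    rw [morphismRestrict_ι_assoc, Over.w])
  have sqT : IsPullback ((yon S).map (openIncl W T)) ((yon S).map k) (p ≫ π) ((yon S).map (openIncl U Ω)) := by
    rw [← hh, isPullback_yon_iff]
    exact (isPullback_morphismRestrict h.left Ω).flip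
  let a := sq.lift ((yon S).map (openIncl W T) ≫ p) ((yon S).map k) (by rw [Category.assoc]; exact sqT.w)
  have ha₂ : a ≫ snd = (yon S).map k := sq.lift_snd _ _ _
  have sqa : IsPullback ((yon S).map (openIncl W T)) a p fst := by
    refine IsPullback.of_bot ?_ (sq.lift_fst _ _ _).symm sq
    rw [ha₂]; exact sqT
  obtain ⟨g₁, g₂⟩ := goodOn_restrict hg
  have hae : RepWith @Etale a := repWith_baseChange sqa hp
  have has : RepWith @Surjective a := repWith_baseChange sqa hps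
  exact ⟨locP_of_chart etST_flat hQ (IsAlgSpace.yon_obj _) hae has (AlgSp.repWith_id _ _)
      (by rw [Category.comp_id]; exact ha₂) g₁,
    locP_of_chart etST_lfp hQ (IsAlgSpace.yon_obj _) hae has (AlgSp.repWith_id _ _)
      (by rw [Category.comp_id]; exact ha₂) g₂⟩

end Groth.Agent.GerbDense

end
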