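import Groth.Agent.GerbDense.Closed
import Groth.Agent.ArtinAtlas.Atlas
import Groth.Agent.AlgStLib.IsoClassSp
import Groth.Agent.AlgStLib.OpenSub
import Groth.Agent.AlgStLib.LocalSub
import Groth.Agent.AlgStLib.LocQ
import Groth.Agent.AlgStLib.Points

/-!
# Residual gerbes at points closed in their orbit of a smooth affine chart
-/

set_option autoImplicit false
set_option backward.isDefEq.respectTransparency false
set_option backward.isDefEq.respectTransparency.types false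
set_option linter.style.haveILetI false
universe u

noncomputable section

namespace Groth.Agent.GerbDense

open CategoryTheory CategoryTheory.Limits AlgebraicGeometry Opposite Groth.Agent.AlgSpLib Groth.Agent.StkBasic
  Groth.Agent.FibCatRep Groth.Agent.FibCat2Misc Groth.Agent.AlgStLib
open _root_.AlgSp _root_.AlgSt

variable {S : Scheme.{u}} {𝒳 : AlgSt.Cat S}

local notation "AS" => IsAlgStack Scheme.fppfPrecoverage
local notation "JS" => QuotSh.J Scheme.fppfPrecoverage S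

/-! ### the substack of objects locally coming from a point -/

variable {K : Over S} (pK : AlgSt.ofSp (spOf K).obj ⥤ᵇ 𝒳)

/-- maps along which an object comes from the point -/
def facSieve (a : 𝒳.obj) : Sieve (𝒳.p.obj a) where
  arrows V f := ∃ (o : (AlgSt.ofSp (spOf K).obj).obj) (g : pK.obj o ⟶ a), 𝒳.p.IsHomLift f g
  downward_closed := by
    rintro V V' f ⟨o, g, hg⟩ h
    have e : 𝒳.p.obj (pK.obj o) = V := IsHomLift.domain_eq 𝒳.p f g
    obtain ⟨o', φ, ho', hφ⟩ := exists_lift (isFibGrpd_ofSpace _) (x := o) (h ≫ eqToHom (e.symm.trans (pK.w_obj o)))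
    refine ⟨o', pK.map φ ≫ g, IsHomLift.of_fac' 𝒳.p _ _ ((pK.w_obj o').trans ho') rfl ?_⟩
    rw [Functor.map_comp, map_map pK φ, hφ, IsHomLift.fac' 𝒳.p f g]
    simp

/-- the objects fppf locally coming from the point -/
def FromPt (a : 𝒳.obj) : Prop := facSieve pK a ∈ JS (𝒳.p.obj a)

theorem fromPt_of_hom (h𝒳 : FibCat.IsFibGrpd 𝒳.p) {a a' : 𝒳.obj} (m : a' ⟶ a) (h : FromPt pK a) : FromPt pK a' := by
  refine GrothendieckTopology.superset_covering _ ?_ ((JS).pullback_stable (𝒳.p.map m) h)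
  rintro V f ⟨o, g, hg⟩
  have e : 𝒳.p.obj (pK.obj o) = V := IsHomLift.domain_eq 𝒳.p (f ≫ 𝒳.p.map m) g
  obtain ⟨χ, ⟨hχ, -⟩, -⟩ := existsUnique_cart h𝒳 m g (eqToHom e ≫ f) (by
    rw [IsHomLift.fac' 𝒳.p (f ≫ 𝒳.p.map m) g]
    simp)
  exact ⟨o, χ, IsHomLift.of_fac' 𝒳.p _ _ e rfl (by rw [hχ]; simp)⟩

theorem fromPt_obj (o : (AlgSt.ofSp (spOf K).obj).obj) : FromPt pK (pK.obj o) := by
  refine GrothendieckTopology.superset_covering _ (fun V f _ => ?_) ((JS).top_mem _)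
  obtain ⟨o', φ, ho', hφ⟩ := exists_lift (isFibGrpd_ofSpace _) (x := o) (f ≫ eqToHom (pK.w_obj o))
  exact ⟨o', pK.map φ, IsHomLift.of_fac' 𝒳.p _ _ ((pK.w_obj o').trans ho') rfl (by
    rw [map_map pK φ, hφ]; simp)⟩

theorem fromPt_local (h𝒳 : FibCat.IsFibGrpd 𝒳.p) (a : 𝒳.obj) (R : Sieve (𝒳.p.obj a)) (hR : R ∈ JS (𝒳.p.obj a))
    (h : ∀ ⦃V : Over S⦄ (f : V ⟶ 𝒳.p.obj a), R f → ∀ (b : 𝒳.obj) (m : b ⟶ a) (hb : 𝒳.p.obj b = V),
      𝒳.p.map m = eqToHom hb ≫ f → FromPt pK b) : FromPt pK a := by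
  refine (JS).transitive hR _ fun V f hf => ?_
  obtain ⟨b, m, hb, hm⟩ := exists_lift h𝒳 (x := a) f
  have hbF := h f hf b m hb hm
  subst hb
  refine GrothendieckTopology.superset_covering _ ?_ hbF
  rintro W f' ⟨o, g, hg⟩
  have e : 𝒳.p.obj (pK.obj o) = W := IsHomLift.domain_eq 𝒳.p f' g
  refine ⟨o, g ≫ m, IsHomLift.of_fac' 𝒳.p _ _ e rfl ?_⟩
  rw [Functor.map_comp, IsHomLift.fac' 𝒳.p f' g, hm]
  simp

theorem isStack_fromPt (h𝒳 : AS 𝒳) : Stk.IsStack JS (AlgSt.fullSub 𝒳 (FromPt pK)) :=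
  isStack_fullSub h𝒳.isStack (fun m h => fromPt_of_hom pK h𝒳.isStack.1 m h) (fromPt_local pK h𝒳.isStack.1)

theorem subsingleton_points_field {L : Type u} [Field L] (str : Spec (CommRingCat.of L) ⟶ S) :
    Subsingleton (AlgSt.Points (AlgSt.ofSp (spOf (Over.mk str)).obj)) := ⟨fun a b => by
  obtain ⟨a', rfl⟩ := (bijective_stPts _).2 a
  obtain ⟨b', rfl⟩ := (bijective_stPts _).2 b
  exact congrArg _ ((points_yon_subsingleton str).1.elim a' b')⟩

/-- a field point with fibre square locally of finite type gives a residual gerbe -/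
theorem resGerbeExists_of_point (h𝒳 : AS 𝒳) {L : Type u} [Field L] {str : Spec (CommRingCat.of L) ⟶ S}
    (q : AlgSt.ofSp (spOf (Over.mk str)).obj ⥤ᵇ 𝒳) {x : AlgSt.Points 𝒳}
    (hx : ∀ z, AlgSt.Points.map q z = x)
    (h : RepByAlgSpWith (LocP @Flat) (FibCat.fpFst q q) ∧
      RepByAlgSpWith (LocP @LocallyOfFinitePresentation) (FibCat.fpFst q q)) :
    Gerb.ResGerbeExists Scheme.fppfPrecoverage 𝒳 x := by
  let Q := FromPt q
  have hS := isStack_fromPt q h𝒳
  have hG := hS.1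
  let i := AlgSt.subIncl 𝒳 Q
  let w : AlgSt.ofSp (spOf (Over.mk str)).obj ⥤ᵇ AlgSt.fullSub 𝒳 Q := liftSub Q q (fromPt_obj q)
  have hrep : ∀ {P : PSp S}, IsAlgSpaceP P → ∀ c : Stk.ofPsh P ⥤ᵇ AlgSt.fullSub 𝒳 Q, RepByAlgSp1 c :=
    fun {P} hP c => repByAlgSpWith_top_iff.1 (repWith_of_comp_ff ⊤ (i := i)
      (repByAlgSpWith_top_iff.2 (repByAlgSp1_point h𝒳.isStack.1 h𝒳.diag hP (BasedFunctor.comp c i))))
  have hw1 : RepByAlgSp1 w := hrep (isAlgSpaceP_yon _) w
  have hloc : Gerb.LocSurjObj JS w := fun y => by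
    refine ⟨_, y.property, ?_⟩
    rintro V f ⟨o, g, hg⟩
    exact ⟨o, ObjectProperty.homMk g, IsHomLift.of_fac' _ _ _ (IsHomLift.domain_eq 𝒳.p f g) rfl (IsHomLift.fac' 𝒳.p f g)⟩
  have hlifts : Lifts w := IsoSh.lifts_of_locSurjObj (isFibGrpd_ofSpace _) hG hw1 hloc
  haveI : i.toFunctor.Full := full_subIncl Q
  haveI : i.toFunctor.Faithful := faithful_subIncl Q
  have heq : FibCat.IsEquivOver (fpMap (F := q) (G := q) w w (BasedFunctor.id _) (BasedFunctor.id _) i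
      (Iso.refl _) (Iso.refl _)) := isEquivOver_fpMap _ _ _ _ _ _ _ isEquivOver_id isEquivOver_id
  have key : ∀ {P : MorphismProperty (Sp S)}, BCStable P → IsLocalOnBase (IsFppfCover (S := S)) P →
      RepByAlgSpWith P (FibCat.fpFst q q) → RepByAlgSpWith P w := fun {P} hb hl hq =>
    repWith_of_lifts hb hl hw1 hlifts
      ((repWith_iff_of_equiv P (FibCat.fpFst q q) (FibCat.fpFst w w) _ (BasedFunctor.id _) heq isEquivOver_id
        (Iso.refl _)).1 hq)
  have w₁ := key cls_flat.bc cls_flat.loc h.1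
  have w₂ := key cls_lfp.bc cls_lfp.loc h.2
  have hsurj : AlgSt.IsSurjective w := fun z => by
    obtain ⟨U, y, t, rfl⟩ := exists_ofChart hG z
    obtain ⟨V, g, -, gs, -, z', ⟨j⟩⟩ := hlifts U (BasedFunctor.comp (AlgSt.toOverCat U) y)
    haveI := gs
    obtain ⟨v, rfl⟩ := g.left.surjective t
    refine ⟨AlgSt.Points.map z' (AlgSt.Points.ofChart (ofOverCat V) v), ?_⟩
    rw [← map_comp_points, map_congr_points j, map_ofChart, ← ofChart_overMap y g v]
    rfl
  have w₃ : RepByAlgSpWith AlgSp.IsSurjectiveMor w :=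
    repWith_surjective_of_isSurjective (isFibGrpd_ofSpace _) hG hw1 hsurj
  let K₀ := Over.mk str
  have hA : AS (AlgSt.fullSub 𝒳 Q) := by
    refine ⟨hS, repByAlgSp1_diag_of_points hG fun U c => hrep (isAlgSpaceP_yon U) c, ?_⟩
    refine Groth.Agent.ArtinAtlas.hasAtlas_of_flat_chart hS
      (fun U c => (repByAlgSp1_overCat_iff U c).2 (hrep (isAlgSpaceP_yon U) _))
      (BasedFunctor.comp (ofOverCat K₀) w) ?_ ((repWith_ofOverCat_iff _ w).2 w₃)
    haveI := Groth.Agent.ArtinAtlas.respectsIso_locP (S := S) @Flat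
    haveI := Groth.Agent.ArtinAtlas.respectsIso_locP (S := S) @LocallyOfFinitePresentation
    exact (repWith_ofOverCat_iff _ w).2 (repWith_mono (repWith_and w₁ w₂)
      fun _ _ _ _ ha => fun _ _ p q k hp hq c => ⟨ha.1 p q k hp hq c, ha.2 p q k hp hq c⟩)
  haveI := subsingleton_points_field str
  have hsub : Subsingleton (AlgSt.Points (AlgSt.fullSub 𝒳 Q)) := ⟨fun a b => by
    obtain ⟨a', rfl⟩ := hsurj a
    obtain ⟨b', rfl⟩ := hsurj b
    exact congrArg _ (Subsingleton.elim a' b')⟩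
  obtain ⟨z₀⟩ : Nonempty (AlgSt.Points (AlgSt.ofSp (spOf K₀).obj)) := by
    obtain ⟨t⟩ : Nonempty ↥K₀.left := inferInstanceAs (Nonempty (PrimeSpectrum L))
    exact ⟨AlgSt.Points.ofChart (ofOverCat K₀) t⟩
  refine ⟨AlgSt.fullSub 𝒳 Q, i, hA, isMono_of_fullyFaithful hA h𝒳 i, ⟨AlgSt.Points.map w z₀⟩, hsub, fun z => ?_⟩
  obtain ⟨z', rfl⟩ := hsurj z
  rw [← map_comp_points]
  exact hx z'

end Groth.Agent.GerbDense

end
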