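import Groth.Agent.GerbDense.Orbit
import Groth.Agent.AlgSpLib.MulFlat
import Groth.Agent.GerbDense.GenFlat

/-!
# The fibre square of a point closed in its orbit is locally of finite type
-/

set_option autoImplicit false
set_option backward.isDefEq.respectTransparency false
set_option backward.isDefEq.respectTransparency.types false
set_option linter.style.haveILetI false
universe u

noncomputable section

namespace Groth.Agent.GerbDense

open CategoryTheory CategoryTheory.Limits AlgebraicGeometry Opposite Groth.Agent.AlgSpLib Groth.Agent.StkBasic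
  Groth.Agent.FibCatRep Groth.Agent.FibCat2Misc Groth.Agent.AlgStLib
open _root_.AlgSp _root_.AlgSt

variable {S : Scheme.{u}} {𝒳 : AlgSt.Cat S}

local notation "AS" => IsAlgStack Scheme.fppfPrecoverage

theorem lfp_to_field {L : Type u} [Field L] {str : Spec (CommRingCat.of L) ⟶ S} {V : Sp S}
    (m : V ⟶ (yon S).obj (Over.mk str)) (hm : LocP @LocallyOfFiniteType m) :
    LocP @LocallyOfFinitePresentation m := fun W V' b c h hb hc comm => by
  haveI : LocallyOfFiniteType h.left := hm b c h hb hc comm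
  obtain ⟨d, rfl⟩ := exists_map_eq c
  haveI : Etale d.left := (repWith_yon_iff d).1 hc
  haveI : IsLocallyNoetherian (Over.mk str).left := inferInstanceAs (IsLocallyNoetherian (Spec (CommRingCat.of L)))
  haveI : IsLocallyNoetherian V'.left := LocallyOfFiniteType.isLocallyNoetherian d.left
  exact ConsEngine.lfp_of_lft h.left

/-- residual gerbes at points of smooth affine charts without specialisations in their orbit -/
theorem resGerbeExists_of_closed_in_orbit (h𝒳 : AS 𝒳) {A : CommRingCat.{u}} {σ : Spec A ⟶ S}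
    (x : AlgSt.ofSp (spOf (Over.mk σ)).obj ⥤ᵇ 𝒳) (hx : RepByAlgSpWith (LocP @Smooth) x) (p : PrimeSpectrum A)
    (hmax : ∀ q : PrimeSpectrum A, p.asIdeal ≤ q.asIdeal →
      AlgSt.Points.ofChart (BasedFunctor.comp (ofOverCat (Over.mk σ)) x) q =
        AlgSt.Points.ofChart (BasedFunctor.comp (ofOverCat (Over.mk σ)) x) p → q = p) :
    Gerb.ResGerbeExists Scheme.fppfPrecoverage 𝒳 (AlgSt.Points.ofChart (BasedFunctor.comp (ofOverCat (Over.mk σ)) x) p) := by
  let U : Over S := Over.mk σ
  let K : Over S := Over.mk (fracPoint p ≫ σ)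
  let m : K ⟶ U := Over.homMk (fracPoint p) rfl
  let xU := BasedFunctor.comp (ofOverCat U) x
  let q : AlgSt.ofSp (spOf K).obj ⥤ᵇ 𝒳 := BasedFunctor.comp (Stk.ofPshMap ((yon S).map m).hom) x
  let qK := BasedFunctor.comp (ofOverCat K) q
  have hptK : ∀ t : ↥K.left, AlgSt.Points.ofChart qK t = AlgSt.Points.ofChart xU p := fun t => by
    rw [show p = m.left t from (fracPoint_apply p t).symm, ← ofChart_overMap xU m t]
    rfl
  have hq : ∀ z, AlgSt.Points.map q z = AlgSt.Points.ofChart xU p := fun z => by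
    obtain ⟨t⟩ : Nonempty ↥K.left := inferInstanceAs (Nonempty (PrimeSpectrum (FractionRing (A ⧸ p.asIdeal))))
    haveI := subsingleton_points_field (S := S) (fracPoint p ≫ σ)
    rw [Subsingleton.elim z (AlgSt.Points.ofChart (ofOverCat K) t), map_ofChart]
    exact hptK t
  refine resGerbeExists_of_point h𝒳 q hq ?_
  haveI := respectsIso_onSp (cls_smooth (S := S)).bc
  have hr : RepByAlgSp1 q := repByAlgSp1_point h𝒳.isStack.1 h𝒳.diag (isAlgSpaceP_yon K) q
  obtain ⟨F, e, he⟩ := repByAlgSp_fp_yon hr U x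
  have hF : IsAlgSpace F.obj := F.property
  let π : F.obj ⟶ (yon S).obj U := ObjectProperty.homMk (prjMap e)
  let β := BasedFunctor.comp e (FibCat.fpSnd x q)
  let b : F.obj ⟶ (yon S).obj K := ObjectProperty.homMk (mapOf β)
  have hsnd : RepByAlgSpWith (LocP @Smooth) (Stk.ofPshMap (mapOf β)) :=
    repWith_congr _ (mapOfIso β) ((repWith_iff_of_equiv _ (FibCat.fpSnd x q) β e (BasedFunctor.id _) he
      isEquivOver_id (Iso.refl _)).1 (repWith_fpSnd _ x q hx))
  have hb : LocP @Smooth b := by
    haveI := Groth.Agent.ArtinAtlas.respectsIso_locP (S := S) @Smooth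
    exact of_repBySpWith cls_smooth.loc hF (IsAlgSpace.yon_obj K) b ((repWith_ofPshMap_iff _ _).1 hsnd)
  obtain ⟨W, c, hce, hcs⟩ := hF.atlas
  obtain ⟨h, hh⟩ := exists_map_eq (c ≫ π)
  obtain ⟨k, hk⟩ := exists_map_eq (c ≫ b)
  haveI : Smooth k.left := hb c (𝟙 _) k hce (AlgSp.repWith_id _ K) (by rw [Category.comp_id, hk])
  let cW : FibCat.overCat W ⥤ᵇ FibCat.fp x q :=
    BasedFunctor.comp (BasedFunctor.comp (ofOverCat W) (Stk.ofPshMap c.hom)) e
  have i₁ : BasedFunctor.comp (BasedFunctor.comp (Stk.ofPshMap c.hom) e) (FibCat.fpFst x q) ≅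
      Stk.ofPshMap ((yon S).map h).hom :=
    (mapOfIso _).symm ≪≫ eqToIso (congrArg Stk.ofPshMap (by
      show mapOf (BasedFunctor.comp (Stk.ofPshMap c.hom) (BasedFunctor.comp e (FibCat.fpFst x q))) = _
      rw [mapOf_comp, mapOf_ofPshMap]
      exact (congrArg (fun t => t.hom) hh).symm))
  have i₂ : BasedFunctor.comp (BasedFunctor.comp (Stk.ofPshMap c.hom) e) (FibCat.fpSnd x q) ≅
      Stk.ofPshMap ((yon S).map k).hom :=
    (mapOfIso _).symm ≪≫ eqToIso (congrArg Stk.ofPshMap (by
      show mapOf (BasedFunctor.comp (Stk.ofPshMap c.hom) β) = _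
      rw [mapOf_comp, mapOf_ofPshMap]
      exact (congrArg (fun t => t.hom) hk).symm))
  let j₁ : BasedFunctor.comp cW (BasedFunctor.comp (FibCat.fpFst x q) x) ≅
      BasedFunctor.comp (AlgSt.overMap h) xU :=
    (post _ x).mapIso ((Stk.restr (ofOverCat W) _).mapIso i₁)
  let j₂ : BasedFunctor.comp cW (BasedFunctor.comp (FibCat.fpSnd x q) q) ≅
      BasedFunctor.comp (AlgSt.overMap k) qK :=
    (post _ q).mapIso ((Stk.restr (ofOverCat W) _).mapIso i₂)
  have hW : ∀ w : ↥W.left, AlgSt.Points.ofChart xU (h.left w) = AlgSt.Points.ofChart xU p := fun w => by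
    rw [← ofChart_overMap xU h w, ← hptK (k.left w), ← ofChart_overMap qK k w]
    exact ofChart_congr (j₁.symm ≪≫ (Stk.restr cW _).mapIso (FibCat.fpIso x q) ≪≫ j₂) w
  haveI : IsClosedImmersion (pullback.fst h.left (fracPoint p)) :=
    isClosedImmersion_fst_fracPoint p h.left fun w hw => hmax _ hw (hW w)
  have sq := IsPullback.of_hasPullback π ((yon S).map m)
  have hP : IsAlgSpace (pullback π ((yon S).map m)) :=
    isAlgSpace_of_isPullback_space (IsAlgSpace.yon_obj U) hF (IsAlgSpace.yon_obj K) sq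
  let W' : Over S := Over.mk (pullback.fst h.left (fracPoint p) ≫ W.hom)
  let f₁ : W' ⟶ W := Over.homMk (pullback.fst h.left (fracPoint p)) rfl
  let f₂ : W' ⟶ K := Over.homMk (pullback.snd h.left (fracPoint p)) (by
    show pullback.snd h.left (fracPoint p) ≫ fracPoint p ≫ σ = pullback.fst h.left (fracPoint p) ≫ W.hom
    rw [← pullback.condition_assoc]
    exact congrArg (_ ≫ ·) (Over.w h))
  have sqT : IsPullback ((yon S).map f₁) ((yon S).map f₂) (c ≫ π) ((yon S).map m) := by
    rw [← hh, isPullback_yon_iff]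
    exact IsPullback.of_hasPullback h.left (fracPoint p)
  let a := sq.lift ((yon S).map f₁ ≫ c) ((yon S).map f₂) (by rw [Category.assoc]; exact sqT.w)
  have sqa : IsPullback ((yon S).map f₁) a c (pullback.fst π ((yon S).map m)) := by
    refine IsPullback.of_bot ?_ (sq.lift_fst _ _ _).symm sq
    rw [show a ≫ pullback.snd π ((yon S).map m) = (yon S).map f₂ from sq.lift_snd _ _ _]
    exact sqT
  let d : pullback π ((yon S).map m) ⟶ (yon S).obj K := pullback.fst π ((yon S).map m) ≫ b
  have hlft : LocP @LocallyOfFiniteType d := by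
    refine locP_of_chart etST_lft hP (IsAlgSpace.yon_obj K) (repWith_baseChange sqa hce) (repWith_baseChange sqa hcs)
      (AlgSp.repWith_id _ _) (h := f₁ ≫ k) ?_ ?_
    · rw [Category.comp_id, Functor.map_comp, hk, ← Category.assoc]
      exact congrArg (· ≫ b) (sq.lift_fst _ _ _) |>.trans (Category.assoc _ _ _)
    · show LocallyOfFiniteType (f₁.left ≫ k.left)
      haveI : IsClosedImmersion f₁.left := inferInstanceAs (IsClosedImmersion (pullback.fst h.left (fracPoint p)))
      infer_instance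
  obtain ⟨e', he', -, ⟨i'⟩⟩ := exists_model_baseChange' (f := q) (y := x) ((yon S).map m).hom he
    (sq.map (sheafToPresheaf (J S) (Type (u + 1))))
  let V : AlgSp.Space S := ⟨_, hP⟩
  let aV : V ⟶ spOf K := ObjectProperty.homMk d
  let e'' : AlgSt.ofSp V.obj ⥤ᵇ FibCat.fp q q := BasedFunctor.comp e' (swapFun q q)
  have he'' : FibCat.IsEquivOver e'' := isEquivOver_comp he' (isEquivOver_swapFun q q)
  let i'' : BasedFunctor.comp e'' (FibCat.fpFst q q) ≅ AlgSt.ofSpMap aV.hom :=
    i' ≪≫ (mapOfIso _).symm ≪≫ eqToIso (congrArg Stk.ofPshMap (by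
      show mapOf (BasedFunctor.comp (Stk.ofPshMap (pullback.fst π ((yon S).map m)).hom) β) = _
      rw [mapOf_comp, mapOf_ofPshMap]
      rfl))
  exact ⟨repWith_fpFst_of_model (V := V) (W := spOf K) cls_flat.bc he'' i'' (locP_flat_to_field d),
    repWith_fpFst_of_model (V := V) (W := spOf K) cls_lfp.bc he'' i'' (lfp_to_field d hlft)⟩

end Groth.Agent.GerbDense

end
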