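import Groth.Agent.GerbDense.Main
import Groth.Agent.AlgStLib.RedSub
import Groth.Agent.AlgStLib.ResGerbe
import Groth.Agent.S16871

/-!
# Closed sets of points of closed substacks; residual gerbes for quasi-compact inertia
-/

set_option autoImplicit false
set_option backward.isDefEq.respectTransparency false
set_option backward.isDefEq.respectTransparency.types false
set_option linter.style.haveILetI false
universe u

noncomputable section

namespace Groth.Agent.GerbDense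

open CategoryTheory CategoryTheory.Limits AlgebraicGeometry Opposite Groth.Agent.AlgSpLib Groth.Agent.StkBasic
  Groth.Agent.FibCatRep Groth.Agent.FibCat2Misc Groth.Agent.AlgStLib
open _root_.AlgSp _root_.AlgSt

variable {S : Scheme.{u}} {𝒳 : AlgSt.Cat S}

local notation "AS" => IsAlgStack Scheme.fppfPrecoverage
local notation "IX" => FibCat.inertiaToBase (FibCat.toSelf 𝒳)

theorem isClosed_image_subIncl (h𝒳 : AS 𝒳) {Q : 𝒳.obj → Prop} (hQ : AlgSt.IsClosedSubstack 𝒳 Q Scheme.fppfPrecoverage)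
    {C : Set (AlgSt.Points (AlgSt.fullSub 𝒳 Q))} (hC : IsClosed C) :
    IsClosed (AlgSt.Points.map (AlgSt.subIncl 𝒳 Q) '' C) := by
  obtain ⟨hiso, hA, hi⟩ := hQ
  obtain ⟨U, y, hy, hys⟩ := h𝒳.atlas
  obtain ⟨V, ι, hP, hch, hr⟩ := exists_chart_sub h𝒳.isStack.1 hiso hA.isStack.1 hi U y
  haveI : IsClosedImmersion ι.left := hP
  let v : FibCat.overCat V ⥤ᵇ AlgSt.fullSub 𝒳 Q :=
    liftSub Q (BasedFunctor.comp (AlgSt.overMap ι) y) fun o => (hch _).2 ⟨o.hom, rfl⟩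
  have hv : ∀ t, AlgSt.Points.map (AlgSt.subIncl 𝒳 Q) (AlgSt.Points.ofChart v t) =
      AlgSt.Points.ofChart y (ι.left t) := fun t => by
    rw [map_ofChart, ← ofChart_overMap y ι t]
    rfl
  have hinj := injective_map_subIncl h𝒳.isStack.1 (Q := Q) fun m h => substack_of_hom h𝒳.isStack.1 hiso hA.isStack.1 m h
  have key : AlgSt.Points.ofChart y ⁻¹' (AlgSt.Points.map (AlgSt.subIncl 𝒳 Q) '' C) =
      ι.left '' (AlgSt.Points.ofChart v ⁻¹' C) := by
    ext t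
    constructor
    · rintro ⟨c, hc, hc'⟩
      obtain ⟨w, rfl⟩ := hr.le ⟨c, hc'⟩
      refine ⟨w, ?_, rfl⟩
      show AlgSt.Points.ofChart v w ∈ C
      rwa [hinj ((hv w).trans hc'.symm)]
    · rintro ⟨w, hw, rfl⟩
      exact ⟨_, hw, hv w⟩
  have hq : Topology.IsQuotientMap (AlgSt.Points.ofChart y) :=
    (isOpenMap_ofChart h𝒳.isStack.1 y
      (repWith_mono hy fun _ _ a _ ha => locP_mono (fun _ _ r hr => by haveI : Smooth r := hr; infer_instance) a ha)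
      (repWith_mono hy fun _ _ a _ ha => locP_mono (fun _ _ r hr => by haveI : Smooth r := hr; infer_instance) a ha)).isQuotientMap
        (continuous_ofChart h𝒳 y) (exists_point_of_surjective h𝒳.isStack.1 y hys)
  rw [← hq.isClosed_preimage, key]
  exact ι.left.isClosedEmbedding.isClosedMap _ (hC.preimage (continuous_ofChart hA v))

theorem qc_inertia_fullSub (h𝒳 : AS 𝒳) {Q : 𝒳.obj → Prop} (hA : AS (AlgSt.fullSub 𝒳 Q))
    (hI : AlgSt.IsQuasiCompactMor Scheme.fppfPrecoverage IX) :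
    AlgSt.IsQuasiCompactMor Scheme.fppfPrecoverage (FibCat.inertiaToBase (FibCat.toSelf (AlgSt.fullSub 𝒳 Q))) :=
  isQuasiCompactMor_of_repWith (IsoSh.isAlgStack_inertia hA) hA ((repWith_inertia_fullSub_iff Q).1
    (repWith_fpFst _ IX (AlgSt.subIncl 𝒳 Q) (repWith_qc_of_isQuasiCompactMor (repByAlgSp1_inertia h𝒳) hI)))

/-- a point is contained in an open gerbe inside the reduced substack on its closure -/
theorem exists_gerbe_through (h𝒳 : AS 𝒳) (hI : AlgSt.IsQuasiCompactMor Scheme.fppfPrecoverage IX)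
    (x : AlgSt.Points 𝒳) :
    ∃ (Q : 𝒳.obj → Prop) (O : Set (AlgSt.Points (AlgSt.fullSub 𝒳 Q)))
      (z : AlgSt.Points (AlgSt.fullSub (AlgSt.fullSub 𝒳 Q) (InSet O))),
      AS (AlgSt.fullSub 𝒳 Q) ∧ IsOpen O ∧
      Gerb.IsAlgGerbe Scheme.fppfPrecoverage (AlgSt.fullSub (AlgSt.fullSub 𝒳 Q) (InSet O)) ∧
      AlgSt.Points.map (AlgSt.subIncl 𝒳 Q) (AlgSt.Points.map (AlgSt.subIncl _ (InSet O)) z) = x := by
  obtain ⟨Q, hQ, hr, hred⟩ := exists_reduced_closedSubstack h𝒳 (closure {x}) isClosed_closure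
  have hA := hQ.2.1
  obtain ⟨O, hO, hd, hg⟩ := exists_dense_gerbe hA hred (qc_inertia_fullSub h𝒳 hA hI)
  obtain ⟨z₀, hz₀⟩ := hr.ge (subset_closure rfl)
  have hinj := injective_map_subIncl h𝒳.isStack.1 (Q := Q) fun m h => substack_of_hom h𝒳.isStack.1 hQ.1 hA.isStack.1 m h
  have hmem : z₀ ∈ O := by
    by_contra hn
    haveI : Nonempty (AlgSt.Points (AlgSt.fullSub 𝒳 Q)) := ⟨z₀⟩
    obtain ⟨o, ho⟩ := hd.nonempty
    have hsub : closure {x} ⊆ AlgSt.Points.map (AlgSt.subIncl 𝒳 Q) '' Oᶜ :=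
      closure_minimal (Set.singleton_subset_iff.2 ⟨z₀, hn, hz₀⟩) (isClosed_image_subIncl h𝒳 hQ hO.isClosed_compl)
    obtain ⟨c, hc, hc'⟩ := hsub (hr.le ⟨o, rfl⟩)
    exact hc (hinj hc' ▸ ho)
  obtain ⟨z, hz⟩ := (range_subIncl_inSet O).ge hmem
  exact ⟨Q, O, z, hA, hO, hg, by rw [hz, hz₀]⟩

theorem resGerbeExists_of_qc_inertia (h𝒳 : AS 𝒳) (hI : AlgSt.IsQuasiCompactMor Scheme.fppfPrecoverage IX)
    (x : AlgSt.Points 𝒳) : Gerb.ResGerbeExists Scheme.fppfPrecoverage 𝒳 x := by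
  obtain ⟨Q, O, z, hA, hO, ⟨X, π, hπ⟩, hz⟩ := exists_gerbe_through h𝒳 hI x
  have hB : AS (AlgSt.fullSub (AlgSt.fullSub 𝒳 Q) (InSet O)) := (isOpenSubstack_inSet hA hO).2.1
  obtain ⟨𝒵, i, h𝒵, hi, hne, hsub, hzz⟩ := Groth.Agent.S16871.result S _ hB X π hπ z
  refine ⟨𝒵, BasedFunctor.comp i (BasedFunctor.comp (AlgSt.subIncl _ (InSet O)) (AlgSt.subIncl 𝒳 Q)), h𝒵, ?_, hne, hsub,
    fun p => ?_⟩
  · exact isMono_comp h𝒵.isStack.1 hB.isStack.1 hi
      (isMono_comp hB.isStack.1 hA.isStack.1 (isMono_subIncl hA hB) (isMono_subIncl h𝒳 hA))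
  · rw [map_comp_points, map_comp_points, hzz, hz]

end Groth.Agent.GerbDense

end
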