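import Groth.Agent.GerbDense.OrbitChart

/-!
# Residual gerbes on locally Noetherian stacks
-/

set_option autoImplicit false
set_option backward.isDefEq.respectTransparency false
set_option backward.isDefEq.respectTransparency.types false
set_option linter.style.haveILetI false
universe u

noncomputable section

namespace Groth.Agent.GerbDense

open CategoryTheory CategoryTheory.Limits AlgebraicGeometry Opposite Groth.Agent.AlgSpLib Groth.Agent.StkBasic
  Groth.Agent.FibCatRep Groth.Agent.FibCat2Misc Groth.Agent.AlgStLib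
open _root_.AlgSp _root_.AlgSt

variable {S : Scheme.{u}} {𝒳 : AlgSt.Cat S}

theorem resGerbeExists_of_locallyNoetherian (h𝒳 : IsAlgStack Scheme.fppfPrecoverage 𝒳)
    (hN : AlgSt.SmoothLocally (fun T => IsLocallyNoetherian T) 𝒳) (x₀ : AlgSt.Points 𝒳) :
    Gerb.ResGerbeExists Scheme.fppfPrecoverage 𝒳 x₀ := by
  obtain ⟨U, x, hx, hxs⟩ := exists_atlas_sp h𝒳
  let xU : FibCat.overCat U ⥤ᵇ 𝒳 := BasedFunctor.comp (ofOverCat U) x
  haveI : IsLocallyNoetherian U.left := hN U xU ((repWith_ofOverCat_iff _ x).2 hx)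
  obtain ⟨u₀, hu₀⟩ := exists_point_of_surjective h𝒳.isStack.1 xU ((repWith_ofOverCat_iff _ x).2 hxs) x₀
  obtain ⟨O, hO, hu, -⟩ := exists_isAffineOpen_mem_and_subset (X := U.left) (x := u₀) (U := ⊤) trivial
  haveI : IsNoetherianRing Γ(U.left, O) := IsLocallyNoetherian.component_noetherian ⟨O, hO⟩
  let U' : Over S := Over.mk (hO.fromSpec ≫ U.hom)
  let j : U' ⟶ U := Over.homMk hO.fromSpec rfl
  let x' : AlgSt.ofSp (spOf U').obj ⥤ᵇ 𝒳 := BasedFunctor.comp (Stk.ofPshMap ((yon S).map j).hom) x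
  have hx' : RepByAlgSpWith (LocP @Smooth) x' :=
    AlgStLib.repWith_comp (isFibGrpd_ofSpace _) (isFibGrpd_ofSpace _) cls_smooth.bc cls_smooth.comp cls_smooth.loc
      (repWith_smooth_ofPshMap_of_etale (IsAlgSpace.yon_obj U') (IsAlgSpace.yon_obj U) _
        ((repWith_yon_iff _).2 (inferInstanceAs (Etale hO.fromSpec)))) hx
  let T : Set (Ideal Γ(U.left, O)) :=
    PrimeSpectrum.asIdeal '' {q | AlgSt.Points.ofChart (BasedFunctor.comp (ofOverCat U') x') q = x₀}
  have hT : T.Nonempty := by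
    obtain ⟨q₀, hq₀⟩ : u₀ ∈ Set.range hO.fromSpec := by rw [hO.range_fromSpec]; exact hu
    refine ⟨_, q₀, ?_, rfl⟩
    show AlgSt.Points.ofChart (BasedFunctor.comp (ofOverCat U') x') q₀ = x₀
    rw [← hu₀, ← hq₀]
    exact Eq.trans rfl (ofChart_overMap xU j q₀)
  obtain ⟨_, ⟨p, hp, rfl⟩, hmin⟩ := (wellFounded_gt (α := Ideal Γ(U.left, O))).has_min T hT
  have key := resGerbeExists_of_closed_in_orbit h𝒳 x' hx' p fun q hpq hq => by
    have h₁ : ¬ q.asIdeal > p.asIdeal := hmin _ ⟨q, hq.trans hp, rfl⟩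
    exact PrimeSpectrum.ext (le_antisymm (not_not.1 fun h => h₁ (lt_of_le_of_ne hpq fun e => h e.ge)) hpq)
  rw [← hp]
  exact key

end Groth.Agent.GerbDense

end
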