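import Groth.Agent.GerbDense.Resid
import Groth.Agent.GerbLib.BaseChange
import Groth.Agent.S10547
import Mathlib.SetTheory.Ordinal.Basic

/-!
# Stratification of stacks with quasi-compact inertia by gerbes
-/

set_option autoImplicit false
set_option backward.isDefEq.respectTransparency false
set_option backward.isDefEq.respectTransparency.types false
set_option linter.style.haveILetI false
universe u

noncomputable section

namespace Groth.Agent.GerbDense

open CategoryTheory CategoryTheory.Limits AlgebraicGeometry Opposite Groth.Agent.AlgSpLib Groth.Agent.StkBasic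
  Groth.Agent.FibCatRep Groth.Agent.FibCat2Misc Groth.Agent.AlgStLib
open _root_.AlgSp _root_.AlgSt

variable {S : Scheme.{u}} {𝒳 : AlgSt.Cat S}

local notation "AS" => IsAlgStack Scheme.fppfPrecoverage
local notation "IX" => FibCat.inertiaToBase (FibCat.toSelf 𝒳)

/-- a full subcategory of a full subcategory as a full subcategory -/
def flatSub (Q : 𝒳.obj → Prop) (P : (AlgSt.fullSub 𝒳 Q).obj → Prop) (a : 𝒳.obj) : Prop :=
  ∃ h : Q a, P ⟨a, h⟩

variable {Q : 𝒳.obj → Prop} {P : (AlgSt.fullSub 𝒳 Q).obj → Prop}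

/-- the comparison -/
def nestFun : AlgSt.fullSub (AlgSt.fullSub 𝒳 Q) P ⥤ᵇ AlgSt.fullSub 𝒳 (flatSub Q P) :=
  liftSub (flatSub Q P) (BasedFunctor.comp (AlgSt.subIncl _ P) (AlgSt.subIncl 𝒳 Q))
    fun a => ⟨a.obj.property, a.property⟩

/-- the inverse comparison -/
def unnestFun : AlgSt.fullSub 𝒳 (flatSub Q P) ⥤ᵇ AlgSt.fullSub (AlgSt.fullSub 𝒳 Q) P :=
  liftSub P (liftSub Q (AlgSt.subIncl 𝒳 (flatSub Q P)) fun a => a.property.1) fun a => a.property.2

theorem isEquivOver_nestFun : FibCat.IsEquivOver (nestFun (Q := Q) (P := P)) :=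
  ⟨unnestFun, ⟨Iso.refl _⟩, ⟨Iso.refl _⟩⟩

theorem isEquivOver_unnestFun : FibCat.IsEquivOver (unnestFun (Q := Q) (P := P)) :=
  ⟨nestFun, ⟨Iso.refl _⟩, ⟨Iso.refl _⟩⟩

/-- gerbe strata inside the reduced substack on a closed set -/
theorem exists_stratum (h𝒳 : AS 𝒳) (hI : AlgSt.IsQuasiCompactMor Scheme.fppfPrecoverage IX)
    {T : Set (AlgSt.Points 𝒳)} (hT : IsClosed T) :
    ∃ R : 𝒳.obj → Prop,
      AlgSt.IsLocClosedSubstack 𝒳 R Scheme.fppfPrecoverage ∧
      AlgSt.SmoothLocally (fun X => IsReduced X) (AlgSt.fullSub 𝒳 R) ∧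
      Gerb.IsAlgGerbe Scheme.fppfPrecoverage (AlgSt.fullSub 𝒳 R) ∧
      Set.range (AlgSt.Points.map (AlgSt.subIncl 𝒳 R)) ⊆ T ∧
      IsClosed (T \ Set.range (AlgSt.Points.map (AlgSt.subIncl 𝒳 R))) ∧
      Dense ((Subtype.val : T → AlgSt.Points 𝒳) ⁻¹' Set.range (AlgSt.Points.map (AlgSt.subIncl 𝒳 R))) := by
  obtain ⟨Q, hQ, hr, hred⟩ := exists_reduced_closedSubstack h𝒳 T hT
  have hA := hQ.2.1
  obtain ⟨O, hO, hd, X, π, hπ⟩ := exists_dense_gerbe hA hred (qc_inertia_fullSub h𝒳 hA hI)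
  obtain ⟨hPi, hB, hoi⟩ := isOpenSubstack_inSet hA hO
  let R := flatSub Q (InSet O)
  have hu := isEquivOver_unnestFun (Q := Q) (P := InSet O)
  have hiso : ObjectProperty.IsClosedUnderIsomorphisms R := by
    refine ⟨fun {a b} e h => ?_⟩
    obtain ⟨h₁, h₂⟩ := h
    have hb : Q b := hQ.1.of_iso e h₁
    exact ⟨hb, hPi.of_iso (ObjectProperty.isoMk _ e) h₂⟩
  have hR : AS (AlgSt.fullSub 𝒳 R) := isAlgStack_of_equiv isEquivOver_nestFun hB
  have hbc := bcStable_repWith (S := S) @IsImmersion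
  have hl : IsLocalOnBase (IsFppfCover (S := S)) (AlgSp.RepWith @IsImmersion) := Groth.Agent.S10547.result S
  have hi : AlgSt.IsImm (AlgSt.subIncl 𝒳 R) :=
    (repWith_iff_of_equiv _ (BasedFunctor.comp (AlgSt.subIncl _ (InSet O)) (AlgSt.subIncl 𝒳 Q))
      (AlgSt.subIncl 𝒳 R) unnestFun (BasedFunctor.id _) hu isEquivOver_id (Iso.refl _)).1
      (AlgStLib.repWith_comp hB.isStack.1 hA.isStack.1 hbc (fun _ _ _ _ _ _ a b ha hb => AlgSpLib.repWith_comp ha hb) hl
        (repWith_mono hoi fun _ _ _ _ ha => AlgSpLib.repWith_mono (fun _ _ r hr => by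
          haveI : IsOpenImmersion r := hr; infer_instance) ha)
        (repWith_mono hQ.2.2 fun _ _ _ _ ha => AlgSpLib.repWith_mono (fun _ _ r hr => by
          haveI : IsClosedImmersion r := hr; infer_instance) ha))
  have hrange : Set.range (AlgSt.Points.map (AlgSt.subIncl 𝒳 R)) =
      AlgSt.Points.map (AlgSt.subIncl 𝒳 Q) '' O := by
    ext p
    constructor
    · rintro ⟨q, rfl⟩
      refine ⟨AlgSt.Points.map (AlgSt.subIncl _ (InSet O)) (AlgSt.Points.map unnestFun q),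
        (range_subIncl_inSet O).subset ⟨_, rfl⟩, ?_⟩
      rw [← map_comp_points, ← map_comp_points]
      rfl
    · rintro ⟨o, ho, rfl⟩
      obtain ⟨q, rfl⟩ := (range_subIncl_inSet O).ge ho
      refine ⟨AlgSt.Points.map nestFun q, ?_⟩
      rw [← map_comp_points, ← map_comp_points]
      rfl
  refine ⟨R, ⟨hiso, hR, hi⟩, fun U x hx => ?_,
    ⟨X, BasedFunctor.comp unnestFun π, Groth.Agent.GerbLib.isGerbeOver_comp_equiv hu π hπ⟩, ?_, ?_, ?_⟩
  · refine hred U (BasedFunctor.comp (BasedFunctor.comp x unnestFun) (AlgSt.subIncl _ (InSet O)))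
      (AlgStLib.repWith_comp (isFibGrpd_overCat (C := Over S) U) hB.isStack.1 cls_smooth.bc cls_smooth.comp cls_smooth.loc
        (repWith_comp_equiv_right hx hu) (repWith_mono hoi fun _ T a _ ha =>
          (locP_iff_repWith etST_smooth (IsAlgSpace.yon_obj T) ha.1).2 (AlgSpLib.repWith_mono (fun _ _ r hr => by
            haveI : IsOpenImmersion r := hr; infer_instance) ha)))
  · rw [hrange]
    exact (Set.image_subset_range _ _).trans hr.le
  · have hinj := injective_map_subIncl h𝒳.isStack.1 (Q := Q) fun m h => substack_of_hom h𝒳.isStack.1 hQ.1 hA.isStack.1 m h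
    have e : T \ Set.range (AlgSt.Points.map (AlgSt.subIncl 𝒳 R)) = AlgSt.Points.map (AlgSt.subIncl 𝒳 Q) '' Oᶜ := by
      rw [hrange, ← hr, Set.image_compl_eq_range_diff_image hinj]
    rw [e]
    exact isClosed_image_subIncl h𝒳 hQ hO.isClosed_compl
  · refine dense_iff_inter_open.2 fun V hV ⟨⟨p, hpT⟩, hpV⟩ => ?_
    obtain ⟨W, hW, rfl⟩ := isOpen_induced_iff.1 hV
    obtain ⟨c, hc⟩ := hr.ge hpT
    obtain ⟨o, hoW, hoO⟩ := hd.inter_open_nonempty _ ((AlgStLib.continuous_map h𝒳 (AlgSt.subIncl 𝒳 Q)).isOpen_preimage _ hW)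
      ⟨c, show _ ∈ W by rw [hc]; exact hpV⟩
    refine ⟨⟨AlgSt.Points.map (AlgSt.subIncl 𝒳 Q) o, hr.le ⟨o, rfl⟩⟩, hoW, ?_⟩
    rw [Set.mem_preimage, hrange]
    exact ⟨o, hoO, rfl⟩

/-- stratifications by gerbes -/
theorem exists_stratification (h𝒳 : AS 𝒳) (hI : AlgSt.IsQuasiCompactMor Scheme.fppfPrecoverage IX) :
    ∃ (I : Type (u + 1)) (_ : LinearOrder I) (_ : WellFoundedLT I) (Q : I → 𝒳.obj → Prop)
      (T : I → Set (AlgSt.Points 𝒳)),
      (∀ i, T i = {p | ∀ i', i' < i → p ∉ Set.range (AlgSt.Points.map (AlgSt.subIncl 𝒳 (Q i')))}) ∧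
      (∀ i, AlgSt.IsLocClosedSubstack 𝒳 (Q i) Scheme.fppfPrecoverage ∧
        AlgSt.SmoothLocally (fun X => IsReduced X) (AlgSt.fullSub 𝒳 (Q i)) ∧
        Gerb.IsAlgGerbe Scheme.fppfPrecoverage (AlgSt.fullSub 𝒳 (Q i))) ∧
      (∀ p : AlgSt.Points 𝒳, ∃ i, p ∈ Set.range (AlgSt.Points.map (AlgSt.subIncl 𝒳 (Q i)))) ∧
      (∀ i, IsClosed (T i)) ∧
      (∀ i, Set.range (AlgSt.Points.map (AlgSt.subIncl 𝒳 (Q i))) ⊆ T i ∧
        IsOpen ((Subtype.val : T i → AlgSt.Points 𝒳) ⁻¹' Set.range (AlgSt.Points.map (AlgSt.subIncl 𝒳 (Q i)))) ∧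
        Dense ((Subtype.val : T i → AlgSt.Points 𝒳) ⁻¹' Set.range (AlgSt.Points.map (AlgSt.subIncl 𝒳 (Q i))))) := by
  classical
  have G : ∀ T : Set (AlgSt.Points 𝒳), ∃ R : 𝒳.obj → Prop, IsClosed T →
      AlgSt.IsLocClosedSubstack 𝒳 R Scheme.fppfPrecoverage ∧
      AlgSt.SmoothLocally (fun X => IsReduced X) (AlgSt.fullSub 𝒳 R) ∧
      Gerb.IsAlgGerbe Scheme.fppfPrecoverage (AlgSt.fullSub 𝒳 R) ∧
      Set.range (AlgSt.Points.map (AlgSt.subIncl 𝒳 R)) ⊆ T ∧
      IsClosed (T \ Set.range (AlgSt.Points.map (AlgSt.subIncl 𝒳 R))) ∧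
      Dense ((Subtype.val : T → AlgSt.Points 𝒳) ⁻¹' Set.range (AlgSt.Points.map (AlgSt.subIncl 𝒳 R))) := fun T => by
    by_cases hT : IsClosed T
    · obtain ⟨R, hR⟩ := exists_stratum h𝒳 hI hT
      exact ⟨R, fun _ => hR⟩
    · exact ⟨fun _ => True, fun h => absurd h hT⟩
  choose R hR using G
  let U : Set (AlgSt.Points 𝒳) → Set (AlgSt.Points 𝒳) := fun T => Set.range (AlgSt.Points.map (AlgSt.subIncl 𝒳 (R T)))
  let I := (Order.succ (Cardinal.mk (AlgSt.Points 𝒳))).ord.ToType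
  let T : I → Set (AlgSt.Points 𝒳) := wellFounded_lt.fix fun i rec => {p | ∀ (i' : I) (h : i' < i), p ∉ U (rec i' h)}
  have hTdef : ∀ i, T i = {p | ∀ i', i' < i → p ∉ U (T i')} := fun i => wellFounded_lt.fix_eq _ i
  have hsub : ∀ {i j : I}, j < i → T i ⊆ T j := fun {i j} hji p hp => by
    rw [hTdef] at hp ⊢
    exact fun k hk => hp k (hk.trans hji)
  have hclosed : ∀ i, IsClosed (T i) := fun i => by
    refine WellFoundedLT.induction (motive := fun i => IsClosed (T i)) i fun i ih => ?_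
    show IsClosed (T i)
    have e : T i = ⋂ j : {j // j < i}, T j.1 \ U (T j.1) := by
      ext p
      simp only [Set.mem_iInter, Set.mem_sdiff]
      constructor
      · exact fun hp j => ⟨hsub j.2 hp, by rw [hTdef] at hp; exact hp j.1 j.2⟩
      · intro h
        rw [hTdef]
        exact fun j hj => (h ⟨j, hj⟩).2
    rw [e]
    exact isClosed_iInter fun j => ((hR _) (ih j.1 j.2)).2.2.2.2.1
  refine ⟨I, inferInstance, inferInstance, fun i => R (T i), T, hTdef, fun i => ?_, ?_, hclosed, fun i => ?_⟩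
  · obtain ⟨h₁, h₂, h₃, -⟩ := hR _ (hclosed i)
    exact ⟨h₁, h₂, h₃⟩
  · intro p
    by_contra hn
    push Not at hn
    have hp : ∀ i, p ∈ T i := fun i => by rw [hTdef]; exact fun j _ => hn j
    have hne : ∀ i, (U (T i)).Nonempty := fun i => by
      haveI : Nonempty (T i) := ⟨⟨p, hp i⟩⟩
      obtain ⟨⟨q, _⟩, hq⟩ := ((hR _ (hclosed i)).2.2.2.2.2).nonempty
      exact ⟨q, hq⟩
    choose f hf using hne
    have key : ∀ {i j : I}, j < i → f i ≠ f j := fun {i j} hji e => by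
      have h₁ : f i ∈ T i := (hR _ (hclosed i)).2.2.2.1 (hf i)
      rw [hTdef] at h₁
      exact h₁ j hji (e ▸ hf j)
    have hinj : Function.Injective f := fun i j e => by
      rcases lt_trichotomy i j with h | h | h
      · exact absurd e.symm (key h)
      · exact h
      · exact absurd e (key h)
    have := Cardinal.mk_le_of_injective hinj
    rw [show Cardinal.mk I = Order.succ (Cardinal.mk (AlgSt.Points 𝒳)) from Cardinal.mk_ord_toType _] at this
    exact this.not_gt (Order.lt_succ _)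
  · obtain ⟨-, -, -, h₁, h₂, h₃⟩ := hR _ (hclosed i)
    refine ⟨h₁, ?_, h₃⟩
    refine isClosed_compl_iff.1 ?_
    convert h₂.preimage (continuous_subtype_val : Continuous (Subtype.val : T i → _)) using 1
    ext ⟨q, hq⟩
    simp [hq]

end Groth.Agent.GerbDense

end
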