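import Groth.Agent.GerbDense.Strat

/-!
# Stratification of stacks with quasi-compact inertia by quasi-compact gerbes
-/

set_option autoImplicit false
set_option backward.isDefEq.respectTransparency false
set_option backward.isDefEq.respectTransparency.types false
set_option linter.style.haveILetI false
universe u

noncomputable section

namespace Groth.Agent.GerbDense

open CategoryTheory CategoryTheory.Limits AlgebraicGeometry Opposite Groth.Agent.AlgSpLib Groth.Agent.StkBasic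
  Groth.Agent.FibCatRep Groth.Agent.FibCat2Misc Groth.Agent.AlgStLib
open _root_.AlgSp _root_.AlgSt

variable {S : Scheme.{u}} {𝒳 : AlgSt.Cat S}

local notation "AS" => IsAlgStack Scheme.fppfPrecoverage
local notation "IX" => FibCat.inertiaToBase (FibCat.toSelf 𝒳)

/-- flatness of inertia passes to smaller substacks -/
theorem repWith_inertia_mono {Pr : MorphismProperty (Sp S)} {P' P : 𝒳.obj → Prop} (hle : ∀ a, P' a → P a)
    (h : RepByAlgSpWith Pr (FibCat.inertiaToBase (FibCat.toSelf (AlgSt.fullSub 𝒳 P)))) :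
    RepByAlgSpWith Pr (FibCat.inertiaToBase (FibCat.toSelf (AlgSt.fullSub 𝒳 P'))) := by
  let j : AlgSt.fullSub 𝒳 P' ⥤ᵇ AlgSt.fullSub 𝒳 P := liftSub P (AlgSt.subIncl 𝒳 P') fun a => hle _ a.property
  let i := AlgSt.subIncl 𝒳 P
  have h₁ : RepByAlgSpWith Pr (FibCat.fpFst j (FibCat.fpFst i IX)) :=
    repWith_fpFst Pr _ j ((repWith_inertia_fullSub_iff P).2 h)
  exact (repWith_inertia_fullSub_iff P').1 ((repWith_iff_of_equiv Pr (FibCat.fpFst (BasedFunctor.comp j i) IX)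
    (FibCat.fpFst j (FibCat.fpFst i IX)) (pasteFun j i IX) (BasedFunctor.id _) (isEquivOver_pasteFun j i IX)
    isEquivOver_id (Iso.refl _)).2 h₁)

/-- open substacks of gerbes are gerbes -/
theorem isAlgGerbe_mono (h𝒳 : AS 𝒳) {O O' : Set (AlgSt.Points 𝒳)} (hO : IsOpen O) (hO' : IsOpen O') (hle : O' ⊆ O)
    (hg : Gerb.IsAlgGerbe Scheme.fppfPrecoverage (AlgSt.fullSub 𝒳 (InSet O))) :
    Gerb.IsAlgGerbe Scheme.fppfPrecoverage (AlgSt.fullSub 𝒳 (InSet O')) := by
  have hA := (isOpenSubstack_inSet h𝒳 hO).2.1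
  have hA' := (isOpenSubstack_inSet h𝒳 hO').2.1
  obtain ⟨X, π, hπ⟩ := hg
  obtain ⟨f₁, f₂⟩ := IsoSh.repWith_inertia_of_gerbe hA π hπ
  have hm : ∀ a, InSet O' a → InSet O a := fun a h p hp => hle (h p hp)
  exact (IsoSh.isAlgGerbe_iff hA').2
    ⟨locQ_of_repWith st_flat cls_flat.bc cls_flat.loc (IsoSh.isAlgStack_inertia hA') hA' (repWith_inertia_mono hm f₁),
      locQ_of_repWith st_lfp cls_lfp.bc cls_lfp.loc (IsoSh.isAlgStack_inertia hA') hA' (repWith_inertia_mono hm f₂)⟩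

/-- open sets of points contain quasi-compact open substacks -/
theorem exists_qc_open (h𝒳 : AS 𝒳) {O : Set (AlgSt.Points 𝒳)} (hO : IsOpen O) :
    ∃ O' : Set (AlgSt.Points 𝒳), IsOpen O' ∧ O' ⊆ O ∧ (O.Nonempty → O'.Nonempty) ∧
      AlgSt.IsQuasiCompact (AlgSt.fullSub 𝒳 (InSet O')) := by
  classical
  obtain ⟨U, x, hx, hxs⟩ := exists_atlas_sp h𝒳
  let xU : FibCat.overCat U ⥤ᵇ 𝒳 := BasedFunctor.comp (ofOverCat U) x
  let A₀ : U.left.Opens := ⟨AlgSt.Points.ofChart xU ⁻¹' O, (continuous_ofChart h𝒳 xU).isOpen_preimage _ hO⟩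
  obtain ⟨A, hA, hle, hne⟩ : ∃ A : U.left.Opens, IsAffineOpen A ∧ A ≤ A₀ ∧ (O.Nonempty → (A : Set U.left).Nonempty) := by
    by_cases h : O.Nonempty
    · obtain ⟨p, hp⟩ := h
      obtain ⟨t, rfl⟩ := exists_point_of_surjective h𝒳.isStack.1 xU ((repWith_ofOverCat_iff _ x).2 hxs) p
      obtain ⟨A, hA, htA, hle⟩ := exists_isAffineOpen_mem_and_subset (X := U.left) (U := A₀) (show t ∈ A₀ from hp)
      exact ⟨A, hA, hle, fun _ => ⟨t, htA⟩⟩
    · exact ⟨⊥, isAffineOpen_bot U.left, bot_le, fun h' => absurd h' h⟩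
  let U' := openOver U A
  let x' : AlgSt.ofSp (spOf U').obj ⥤ᵇ 𝒳 := BasedFunctor.comp (Stk.ofPshMap ((yon S).map (openIncl U A)).hom) x
  have hj : RepWith @Etale ((yon S).map (openIncl U A)) := (repWith_yon_iff _).2 (inferInstanceAs (Etale A.ι))
  have hx' : RepByAlgSpWith (LocP @Smooth) x' :=
    AlgStLib.repWith_comp (isFibGrpd_ofSpace _) (isFibGrpd_ofSpace _) cls_smooth.bc cls_smooth.comp cls_smooth.loc
      (repWith_smooth_ofPshMap_of_etale (IsAlgSpace.yon_obj U') (IsAlgSpace.yon_obj U) _ hj) hx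
  have hfl : RepByAlgSpWith (LocP @Flat) x' :=
    repWith_mono hx' fun _ _ a _ ha => locP_mono (fun _ _ r hr => by haveI : Smooth r := hr; infer_instance) a ha
  have hfp : RepByAlgSpWith (LocP @LocallyOfFinitePresentation) x' :=
    repWith_mono hx' fun _ _ a _ ha => locP_mono (fun _ _ r hr => by haveI : Smooth r := hr; infer_instance) a ha
  have hmem : ∀ t : ↥U'.left, AlgSt.Points.map x' (AlgSt.Points.ofChart (ofOverCat U') t) =
      AlgSt.Points.ofChart xU ((openIncl U A).left t) := fun t => by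
    rw [map_ofChart, ← ofChart_overMap xU (openIncl U A) t]
    rfl
  let O' : Set (AlgSt.Points 𝒳) := Set.range (AlgSt.Points.map x')
  have hO' : IsOpen O' := (isOpenMap_map_space (U := spOf U') h𝒳.isStack.1 x' hfl hfp).isOpen_range
  refine ⟨O', hO', ?_, fun h => ?_, ?_⟩
  · rintro _ ⟨q, rfl⟩
    obtain ⟨p, rfl⟩ := (bijective_map_of_equiv (isEquivOver_ofOverCat U')).2 q
    obtain ⟨t, rfl⟩ := exists_ofChart_id p
    rw [map_ofChart (BasedFunctor.id _) (ofOverCat U')]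
    show AlgSt.Points.map x' (AlgSt.Points.ofChart (ofOverCat U') t) ∈ O
    rw [hmem]
    exact hle t.2
  · obtain ⟨t, ht⟩ := hne h
    exact ⟨_, AlgSt.Points.ofChart (ofOverCat U') ⟨t, ht⟩, rfl⟩
  · have hA' : AS (AlgSt.fullSub 𝒳 (InSet O')) := (isOpenSubstack_inSet h𝒳 hO').2.1
    let w : AlgSt.ofSp (spOf U').obj ⥤ᵇ AlgSt.fullSub 𝒳 (InSet O') :=
      liftSub (InSet O') x' fun a => inSet_range_map (isFibGrpd_ofSpace _) h𝒳.isStack.1 x' a
    have hw : RepByAlgSpWith (LocP @Smooth) w := repWith_of_comp_ff _ (i := AlgSt.subIncl 𝒳 (InSet O')) hx'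
    have hws : RepByAlgSpWith AlgSp.IsSurjectiveMor w := by
      refine repWith_surjective_of_isSurjective (isFibGrpd_ofSpace _) hA'.isStack.1 (repByAlgSp1_of_with hw) fun z => ?_
      obtain ⟨q, hq⟩ := (range_subIncl_inSet O').subset ⟨z, rfl⟩
      exact ⟨q, injective_map_subIncl h𝒳.isStack.1 (fun m h => h.of_hom m) ((map_comp_points _ _ q).symm.trans hq)⟩
    exact ⟨U', BasedFunctor.comp (ofOverCat U') w, (show IsAffine A.toScheme from hA),
      (repWith_ofOverCat_iff _ w).2 hw, (repWith_ofOverCat_iff _ w).2 hws⟩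

/-- gerbe strata inside the reduced substack on a closed set -/
theorem exists_stratum_qc (h𝒳 : AS 𝒳) (hI : AlgSt.IsQuasiCompactMor Scheme.fppfPrecoverage IX)
    {T : Set (AlgSt.Points 𝒳)} (hT : IsClosed T) :
    ∃ R : 𝒳.obj → Prop,
      AlgSt.IsLocClosedSubstack 𝒳 R Scheme.fppfPrecoverage ∧
      AlgSt.SmoothLocally (fun X => IsReduced X) (AlgSt.fullSub 𝒳 R) ∧
      Gerb.IsAlgGerbe Scheme.fppfPrecoverage (AlgSt.fullSub 𝒳 R) ∧
      AlgSt.IsQuasiCompact (AlgSt.fullSub 𝒳 R) ∧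
      Set.range (AlgSt.Points.map (AlgSt.subIncl 𝒳 R)) ⊆ T ∧
      IsClosed (T \ Set.range (AlgSt.Points.map (AlgSt.subIncl 𝒳 R))) ∧
      (T.Nonempty → (Set.range (AlgSt.Points.map (AlgSt.subIncl 𝒳 R))).Nonempty) := by
  obtain ⟨Q, hQ, hr, hred⟩ := exists_reduced_closedSubstack h𝒳 T hT
  have hA := hQ.2.1
  obtain ⟨O₁, hO₁, hd₁, hg₁⟩ := exists_dense_gerbe hA hred (qc_inertia_fullSub h𝒳 hA hI)
  obtain ⟨O, hO, hle, hne, hqc⟩ := exists_qc_open hA hO₁
  obtain ⟨X, π, hπ⟩ := isAlgGerbe_mono hA hO₁ hO hle hg₁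
  obtain ⟨hPi, hB, hoi⟩ := isOpenSubstack_inSet hA hO
  let R := flatSub Q (InSet O)
  have hu := isEquivOver_unnestFun (Q := Q) (P := InSet O)
  have hiso : ObjectProperty.IsClosedUnderIsomorphisms R := by
    refine ⟨fun {a b} e h => ?_⟩
    obtain ⟨h₁, h₂⟩ := h
    have hb : Q b := hQ.1.of_iso e h₁
    exact ⟨hb, hPi.of_iso (ObjectProperty.isoMk _ e) h₂⟩
  have hR : AS (AlgSt.fullSub 𝒳 R) := isAlgStack_of_equiv isEquivOver_nestFun hB
  have hbc := bcStable_repWith (S := S) @IsImmersion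
  have hl : IsLocalOnBase (IsFppfCover (S := S)) (AlgSp.RepWith @IsImmersion) := Groth.Agent.S10547.result S
  have hi : AlgSt.IsImm (AlgSt.subIncl 𝒳 R) :=
    (repWith_iff_of_equiv _ (BasedFunctor.comp (AlgSt.subIncl _ (InSet O)) (AlgSt.subIncl 𝒳 Q))
      (AlgSt.subIncl 𝒳 R) unnestFun (BasedFunctor.id _) hu isEquivOver_id (Iso.refl _)).1
      (AlgStLib.repWith_comp hB.isStack.1 hA.isStack.1 hbc (fun _ _ _ _ _ _ a b ha hb => AlgSpLib.repWith_comp ha hb) hl
        (repWith_mono hoi fun _ _ _ _ ha => AlgSpLib.repWith_mono (fun _ _ r hr => by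
          haveI : IsOpenImmersion r := hr; infer_instance) ha)
        (repWith_mono hQ.2.2 fun _ _ _ _ ha => AlgSpLib.repWith_mono (fun _ _ r hr => by
          haveI : IsClosedImmersion r := hr; infer_instance) ha))
  have hrange : Set.range (AlgSt.Points.map (AlgSt.subIncl 𝒳 R)) =
      AlgSt.Points.map (AlgSt.subIncl 𝒳 Q) '' O := by
    ext p
    constructor
    · rintro ⟨q, rfl⟩
      refine ⟨AlgSt.Points.map (AlgSt.subIncl _ (InSet O)) (AlgSt.Points.map unnestFun q),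
        (range_subIncl_inSet O).subset ⟨_, rfl⟩, ?_⟩
      rw [← map_comp_points, ← map_comp_points]
      rfl
    · rintro ⟨o, ho, rfl⟩
      obtain ⟨q, rfl⟩ := (range_subIncl_inSet O).ge ho
      refine ⟨AlgSt.Points.map nestFun q, ?_⟩
      rw [← map_comp_points, ← map_comp_points]
      rfl
  refine ⟨R, ⟨hiso, hR, hi⟩, fun U x hx => ?_,
    ⟨X, BasedFunctor.comp unnestFun π, Groth.Agent.GerbLib.isGerbeOver_comp_equiv hu π hπ⟩,
    (isQuasiCompact_iff_of_equiv isEquivOver_nestFun hB).1 hqc, ?_, ?_, ?_⟩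
  · refine hred U (BasedFunctor.comp (BasedFunctor.comp x unnestFun) (AlgSt.subIncl _ (InSet O)))
      (AlgStLib.repWith_comp (isFibGrpd_overCat (C := Over S) U) hB.isStack.1 cls_smooth.bc cls_smooth.comp cls_smooth.loc
        (repWith_comp_equiv_right hx hu) (repWith_mono hoi fun _ T a _ ha =>
          (locP_iff_repWith etST_smooth (IsAlgSpace.yon_obj T) ha.1).2 (AlgSpLib.repWith_mono (fun _ _ r hr => by
            haveI : IsOpenImmersion r := hr; infer_instance) ha)))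
  · rw [hrange]
    exact (Set.image_subset_range _ _).trans hr.le
  · have hinj := injective_map_subIncl h𝒳.isStack.1 (Q := Q) fun m h => substack_of_hom h𝒳.isStack.1 hQ.1 hA.isStack.1 m h
    have e : T \ Set.range (AlgSt.Points.map (AlgSt.subIncl 𝒳 R)) = AlgSt.Points.map (AlgSt.subIncl 𝒳 Q) '' Oᶜ := by
      rw [hrange, ← hr, Set.image_compl_eq_range_diff_image hinj]
    rw [e]
    exact isClosed_image_subIncl h𝒳 hQ hO.isClosed_compl
  · intro hne'
    obtain ⟨p, hp⟩ := hne'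
    obtain ⟨c, -⟩ := hr.ge hp
    haveI : Nonempty (AlgSt.Points (AlgSt.fullSub 𝒳 Q)) := ⟨c⟩
    obtain ⟨o, ho⟩ := hne hd₁.nonempty
    rw [hrange]
    exact ⟨_, o, ho, rfl⟩

/-- stratifications by quasi-compact gerbes -/
theorem exists_stratification_qc (h𝒳 : AS 𝒳) (hI : AlgSt.IsQuasiCompactMor Scheme.fppfPrecoverage IX) :
    ∃ (I : Type (u + 1)) (_ : LinearOrder I) (_ : WellFoundedLT I) (Q : I → 𝒳.obj → Prop)
      (T : I → Set (AlgSt.Points 𝒳)),
      (∀ i, T i = {p | ∀ i', i' < i → p ∉ Set.range (AlgSt.Points.map (AlgSt.subIncl 𝒳 (Q i')))}) ∧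
      (∀ i, AlgSt.IsLocClosedSubstack 𝒳 (Q i) Scheme.fppfPrecoverage ∧
        AlgSt.SmoothLocally (fun X => IsReduced X) (AlgSt.fullSub 𝒳 (Q i)) ∧
        AlgSt.IsQuasiCompact (AlgSt.fullSub 𝒳 (Q i)) ∧
        Gerb.IsAlgGerbe Scheme.fppfPrecoverage (AlgSt.fullSub 𝒳 (Q i))) ∧
      (∀ p : AlgSt.Points 𝒳, ∃ i, p ∈ Set.range (AlgSt.Points.map (AlgSt.subIncl 𝒳 (Q i)))) ∧
      (∀ i, IsClosed (T i)) ∧
      (∀ i, Set.range (AlgSt.Points.map (AlgSt.subIncl 𝒳 (Q i))) ⊆ T i ∧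
        IsOpen ((Subtype.val : T i → AlgSt.Points 𝒳) ⁻¹' Set.range (AlgSt.Points.map (AlgSt.subIncl 𝒳 (Q i))))) := by
  classical
  have G : ∀ T : Set (AlgSt.Points 𝒳), ∃ R : 𝒳.obj → Prop, IsClosed T →
      AlgSt.IsLocClosedSubstack 𝒳 R Scheme.fppfPrecoverage ∧
      AlgSt.SmoothLocally (fun X => IsReduced X) (AlgSt.fullSub 𝒳 R) ∧
      Gerb.IsAlgGerbe Scheme.fppfPrecoverage (AlgSt.fullSub 𝒳 R) ∧
      AlgSt.IsQuasiCompact (AlgSt.fullSub 𝒳 R) ∧
      Set.range (AlgSt.Points.map (AlgSt.subIncl 𝒳 R)) ⊆ T ∧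
      IsClosed (T \ Set.range (AlgSt.Points.map (AlgSt.subIncl 𝒳 R))) ∧
      (T.Nonempty → (Set.range (AlgSt.Points.map (AlgSt.subIncl 𝒳 R))).Nonempty) := fun T => by
    by_cases hT : IsClosed T
    · obtain ⟨R, hR⟩ := exists_stratum_qc h𝒳 hI hT
      exact ⟨R, fun _ => hR⟩
    · exact ⟨fun _ => True, fun h => absurd h hT⟩
  choose R hR using G
  let U : Set (AlgSt.Points 𝒳) → Set (AlgSt.Points 𝒳) := fun T => Set.range (AlgSt.Points.map (AlgSt.subIncl 𝒳 (R T)))
  let I := (Order.succ (Cardinal.mk (AlgSt.Points 𝒳))).ord.ToType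
  let T : I → Set (AlgSt.Points 𝒳) := wellFounded_lt.fix fun i rec => {p | ∀ (i' : I) (h : i' < i), p ∉ U (rec i' h)}
  have hTdef : ∀ i, T i = {p | ∀ i', i' < i → p ∉ U (T i')} := fun i => wellFounded_lt.fix_eq _ i
  have hsub : ∀ {i j : I}, j < i → T i ⊆ T j := fun {i j} hji p hp => by
    rw [hTdef] at hp ⊢
    exact fun k hk => hp k (hk.trans hji)
  have hclosed : ∀ i, IsClosed (T i) := fun i => by
    refine WellFoundedLT.induction (motive := fun i => IsClosed (T i)) i fun i ih => ?_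
    show IsClosed (T i)
    have e : T i = ⋂ j : {j // j < i}, T j.1 \ U (T j.1) := by
      ext p
      simp only [Set.mem_iInter, Set.mem_sdiff]
      constructor
      · exact fun hp j => ⟨hsub j.2 hp, by rw [hTdef] at hp; exact hp j.1 j.2⟩
      · intro h
        rw [hTdef]
        exact fun j hj => (h ⟨j, hj⟩).2
    rw [e]
    exact isClosed_iInter fun j => ((hR _) (ih j.1 j.2)).2.2.2.2.2.1
  refine ⟨I, inferInstance, inferInstance, fun i => R (T i), T, hTdef, fun i => ?_, ?_, hclosed, fun i => ?_⟩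
  · obtain ⟨h₁, h₂, h₃, h₄, -⟩ := hR _ (hclosed i)
    exact ⟨h₁, h₂, h₄, h₃⟩
  · intro p
    by_contra hn
    push Not at hn
    have hp : ∀ i, p ∈ T i := fun i => by rw [hTdef]; exact fun j _ => hn j
    have hne : ∀ i, (U (T i)).Nonempty := fun i => by
      exact ((hR _ (hclosed i)).2.2.2.2.2.2) ⟨p, hp i⟩
    choose f hf using hne
    have key : ∀ {i j : I}, j < i → f i ≠ f j := fun {i j} hji e => by
      have h₁ : f i ∈ T i := (hR _ (hclosed i)).2.2.2.2.1 (hf i)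
      rw [hTdef] at h₁
      exact h₁ j hji (e ▸ hf j)
    have hinj : Function.Injective f := fun i j e => by
      rcases lt_trichotomy i j with h | h | h
      · exact absurd e.symm (key h)
      · exact h
      · exact absurd e (key h)
    have := Cardinal.mk_le_of_injective hinj
    rw [show Cardinal.mk I = Order.succ (Cardinal.mk (AlgSt.Points 𝒳)) from Cardinal.mk_ord_toType _] at this
    exact this.not_gt (Order.lt_succ _)
  · obtain ⟨-, -, -, -, h₁, h₂, -⟩ := hR _ (hclosed i)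
    refine ⟨h₁, ?_⟩
    refine isClosed_compl_iff.1 ?_
    convert h₂.preimage (continuous_subtype_val : Continuous (Subtype.val : T i → _)) using 1
    ext ⟨q, hq⟩
    simp [hq]

end Groth.Agent.GerbDense

end
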